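import Cfsg.Agent.ClassicalMax.Generic

/-!
An irreducible linear group in dimension three with one whole root group contains all transvections.
-/

set_option autoImplicit false

namespace Cfsg.Agent.ClassicalMax.SL3

open Module

variable {F V : Type*} [Field F] [AddCommGroup V] [Module F V]

/-- `M` contains the root group of the point of `v` and the hyperplane of `φ` -/
structure Root (M : Subgroup (V ≃ₗ[F] V)) (φ : Dual F V) (v : V) : Prop where
  inc : φ v = 0
  fne : φ ≠ 0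
  vne : v ≠ 0
  mem : ∀ c : F, tvec φ (c • v) ∈ M

variable {M : Subgroup (V ≃ₗ[F] V)} {φ ψ : Dual F V} {v w : V}

theorem Root.conj (h : Root M φ v) {g : V ≃ₗ[F] V} (hg : g ∈ M) :
    Root M (φ.comp (g⁻¹ : V ≃ₗ[F] V).toLinearMap) (g v) := by
  refine ⟨?_, fun e => h.fne (LinearMap.ext fun x => ?_), g.map_ne_zero_iff.2 h.vne, fun c => ?_⟩
  · show φ (g⁻¹ (g v)) = 0
    rw [inv_apply, h.inc]
  · have := LinearMap.congr_fun e (g x)
    simpa [inv_apply] using this
  · have hc : φ (c • v) = 0 := by rw [map_smul, h.inc, smul_zero]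
    have := mul_mem (mul_mem hg (h.mem c)) (inv_mem hg)
    rwa [conj_tvec g hc, map_smul] at this

theorem Root.smul_right (h : Root M φ v) {a : F} (ha : a ≠ 0) : Root M φ (a • v) :=
  ⟨by rw [map_smul, h.inc, smul_zero], h.fne, smul_ne_zero ha h.vne, fun c => by rw [smul_smul]; exact h.mem _⟩

theorem Root.oneSided (h : Root M φ v) (h' : Root M ψ w) (hv : ψ v = 0) (hw : φ w ≠ 0) : Root M ψ v := by
  refine ⟨hv, h'.fne, h.vne, fun c => ?_⟩
  have hc : φ ((c / φ w) • v) = 0 := by rw [map_smul, h.inc, smul_zero]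
  have hψ : ψ ((c / φ w) • v) = 0 := by rw [map_smul, hv, smul_zero]
  have h1 : tvec ψ w ∈ M := by simpa using h'.mem 1
  have := comm_tvec hc h'.inc hψ
  rw [tvec_smul, smul_smul, mul_div_cancel₀ _ hw] at this
  rw [← this]
  exact mul_mem (mul_mem (mul_mem (h.mem _) h1) (inv_mem (h.mem _))) (inv_mem h1)

/-- two root groups with one centre and different axes, or one axis and different centres -/
def Double (M : Subgroup (V ≃ₗ[F] V)) : Prop :=
  (∃ (φ ψ : Dual F V) (v : V), Root M φ v ∧ Root M ψ v ∧ ¬ ∃ a : F, ψ = a • φ) ∨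
  (∃ (φ : Dual F V) (v w : V), Root M φ v ∧ Root M φ w ∧ ¬ ∃ a : F, w = a • v)

variable [FiniteDimensional F V]

theorem finrank_ker (hφ : φ ≠ 0) : finrank F (LinearMap.ker φ) + 1 = finrank F V :=
  Dual.finrank_ker_add_one_of_ne_zero hφ

theorem eq_smul_of_mem_two (h3 : finrank F V = 3) (hφψ : ¬ ∃ a : F, ψ = a • φ) (hφ : φ ≠ 0)
    (hv0 : v ≠ 0) (hv : φ v = 0) (hv' : ψ v = 0) (hw : φ w = 0) (hw' : ψ w = 0) : ∃ a : F, w = a • v := by
  have hne : LinearMap.ker φ ≠ LinearMap.ker φ ⊓ LinearMap.ker ψ := fun e => hφψ <| by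
    have hle : ∀ x, φ x = 0 → ψ x = 0 := fun x hx => (e.le (show x ∈ LinearMap.ker φ from hx)).2
    obtain ⟨x₀, hx₀⟩ : ∃ x, φ x ≠ 0 := by
      by_contra! hc
      exact hφ (LinearMap.ext hc)
    refine ⟨ψ x₀ / φ x₀, LinearMap.ext fun x => ?_⟩
    have := hle (x - (φ x / φ x₀) • x₀) (by rw [map_sub, map_smul, smul_eq_mul, div_mul_cancel₀ _ hx₀, sub_self])
    rw [map_sub, map_smul, sub_eq_zero] at this
    rw [this, LinearMap.smul_apply, smul_eq_mul, smul_eq_mul]
    ring
  have hlt := Submodule.finrank_lt_finrank_of_lt (lt_of_le_of_ne inf_le_left hne.symm)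
  have h2 := finrank_ker hφ
  have hv1 : F ∙ v ≤ LinearMap.ker φ ⊓ LinearMap.ker ψ := (Submodule.span_singleton_le_iff_mem _ _).2 ⟨hv, hv'⟩
  have heq := Submodule.eq_of_le_of_finrank_le hv1 (by rw [finrank_span_singleton hv0]; omega)
  obtain ⟨a, ha⟩ := Submodule.mem_span_singleton.1 (heq.ge (show w ∈ LinearMap.ker φ ⊓ LinearMap.ker ψ from ⟨hw, hw'⟩))
  exact ⟨a, ha.symm⟩

theorem all_of_centre (h3 : finrank F V = 3)
    (hirr : ∀ U : Submodule F V, (∀ h ∈ M, ∀ u ∈ U, h u ∈ U) → U = ⊥ ∨ U = ⊤)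
    (h : Root M φ v) (h' : Root M ψ v) (hne : ¬ ∃ a : F, ψ = a • φ) :
    ∀ (χ : Dual F V) (u : V), χ u = 0 → tvec χ u ∈ M := by
  refine all_of_one M hirr h.vne fun χ hχ => ?_
  have hle : Submodule.span F ({φ, ψ} : Set (Dual F V)) ≤ (F ∙ v).dualAnnihilator := by
    rw [Submodule.span_le]
    rintro f (rfl | rfl) <;> rw [SetLike.mem_coe, Submodule.mem_dualAnnihilator] <;> intro y hy <;>
      obtain ⟨a, rfl⟩ := Submodule.mem_span_singleton.1 hy <;> simp [h.inc, h'.inc]
  have hli : LinearIndependent F ![φ, ψ] :=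
    (LinearIndependent.pair_iff' h.fne).2 fun a e => hne ⟨a, e.symm⟩
  have hd : finrank F (Submodule.span F ({φ, ψ} : Set (Dual F V))) = 2 := by
    have := finrank_span_eq_card hli
    rwa [Matrix.range_cons, Matrix.range_cons, Matrix.range_empty, Set.union_empty, Set.singleton_union,
      Fintype.card_fin] at this
  have ha := Subspace.finrank_add_finrank_dualAnnihilator_eq (F ∙ v)
  rw [finrank_span_singleton h.vne, h3] at ha
  have heq := Submodule.eq_of_le_of_finrank_le hle (by omega)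
  have : χ ∈ Submodule.span F ({φ, ψ} : Set (Dual F V)) := heq.ge ((Submodule.mem_dualAnnihilator _).2 fun y hy => by
    obtain ⟨a, rfl⟩ := Submodule.mem_span_singleton.1 hy
    simp [hχ])
  obtain ⟨a, b, rfl⟩ := Submodule.mem_span_pair.1 this
  rw [← tvec_mul_left (by simp [h.inc]) (by simp [h'.inc]), tvec_smul, tvec_smul]
  exact mul_mem (h.mem a) (h'.mem b)

theorem all_of_axis (h3 : finrank F V = 3)
    (hirr : ∀ U : Submodule F V, (∀ h ∈ M, ∀ u ∈ U, h u ∈ U) → U = ⊥ ∨ U = ⊤)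
    (h : Root M φ v) (h' : Root M φ w) (hne : ¬ ∃ a : F, w = a • v) :
    ∀ (χ : Dual F V) (u : V), χ u = 0 → tvec χ u ∈ M := by
  have hall : ∀ u, φ u = 0 → tvec φ u ∈ M := fun u hu => by
    have hd : Submodule.span F ({v, w} : Set V) ≤ LinearMap.ker φ := by
      rw [Submodule.span_le]
      rintro x (rfl | rfl)
      exacts [h.inc, h'.inc]
    have hli : LinearIndependent F ![v, w] := (LinearIndependent.pair_iff' h.vne).2 fun a e => hne ⟨a, e.symm⟩
    have h2 : finrank F (Submodule.span F ({v, w} : Set V)) = 2 := by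
      have := finrank_span_eq_card hli
      rwa [Matrix.range_cons, Matrix.range_cons, Matrix.range_empty, Set.union_empty, Set.singleton_union,
        Fintype.card_fin] at this
    have := finrank_ker h.fne
    have heq := Submodule.eq_of_le_of_finrank_le hd (by omega)
    obtain ⟨a, b, rfl⟩ := Submodule.mem_span_pair.1 (heq.ge (show u ∈ LinearMap.ker φ from hu))
    rw [← tvec_mul_right (by simp [h.inc]) (by simp [h'.inc])]
    exact mul_mem (h.mem a) (h'.mem b)
  obtain ⟨g, hg, x, hx, hgx⟩ : ∃ g ∈ M, ∃ x, φ x = 0 ∧ φ (g x) ≠ 0 := by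
    by_contra! hc
    rcases hirr (LinearMap.ker φ) fun g hg x hx => hc g hg x hx with e | e
    · exact h.vne ((Submodule.mem_bot F).1 (e ▸ (h.inc : v ∈ LinearMap.ker φ)))
    · exact h.fne (LinearMap.ker_eq_top.1 e)
  set ψ := φ.comp (g⁻¹ : V ≃ₗ[F] V).toLinearMap with hψ
  have hψall : ∀ u, ψ u = 0 → tvec ψ u ∈ M := fun u hu => by
    have hu' : φ (g⁻¹ u) = 0 := hu
    have := mul_mem (mul_mem hg (hall _ hu')) (inv_mem hg)
    rwa [conj_tvec g hu', apply_inv] at this
  have hψ0 : ψ ≠ 0 := (h.conj hg).fne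
  have hind : ¬ ∃ a : F, ψ = a • φ := by
    rintro ⟨a, ha⟩
    have h1 : ψ (g x) = 0 := by
      show φ (g⁻¹ (g x)) = 0
      rw [inv_apply, hx]
    rw [ha, LinearMap.smul_apply, smul_eq_mul, mul_eq_zero] at h1
    exact h1.elim (fun e => hψ0 (by rw [ha, e, zero_smul])) hgx
  obtain ⟨u, ⟨hu1, hu2⟩, hu0⟩ : ∃ u ∈ LinearMap.ker φ ⊓ LinearMap.ker ψ, u ≠ 0 := by
    refine Submodule.exists_mem_ne_zero_of_ne_bot fun e => ?_
    have h1 := Submodule.finrank_sup_add_finrank_inf_eq (LinearMap.ker φ) (LinearMap.ker ψ)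
    rw [e, finrank_bot] at h1
    have h2 := Submodule.finrank_le (LinearMap.ker φ ⊔ LinearMap.ker ψ)
    have := finrank_ker h.fne
    have := finrank_ker hψ0
    omega
  exact all_of_centre h3 hirr ⟨hu1, h.fne, hu0, fun c => hall _ (by rw [map_smul, LinearMap.mem_ker.1 hu1, smul_zero])⟩
    ⟨hu2, hψ0, hu0, fun c => hψall _ (by rw [map_smul, LinearMap.mem_ker.1 hu2, smul_zero])⟩ hind

/-- without a double root group two root groups coincide or are opposite -/
theorem same_or_opposite (h3 : finrank F V = 3) (hno : ¬ Double M) (h : Root M φ v) (h' : Root M ψ w) :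
    (∃ a : F, w = a • v) ∨ (φ w ≠ 0 ∧ ψ v ≠ 0) := by
  by_cases hpar : ∃ a : F, w = a • v
  · exact Or.inl hpar
  refine Or.inr ?_
  by_cases hax : ∃ a : F, ψ = a • φ
  · obtain ⟨a, ha⟩ := hax
    have ha0 : a ≠ 0 := fun e => h'.fne (by rw [ha, e, zero_smul])
    refine absurd (Or.inr ⟨φ, v, w, h, ⟨?_, h.fne, h'.vne, fun c => ?_⟩, hpar⟩) hno
    · have := h'.inc
      rw [ha, LinearMap.smul_apply, smul_eq_mul, mul_eq_zero] at this
      exact this.resolve_left ha0
    · have := h'.mem (c / a)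
      rwa [ha, tvec_smul, smul_smul, mul_div_cancel₀ _ ha0] at this
  have hax' : ¬ ∃ a : F, φ = a • ψ := fun ⟨a, ha⟩ => hax ⟨a⁻¹, by
    have ha0 : a ≠ 0 := fun e => h.fne (by rw [ha, e, zero_smul])
    rw [ha, smul_smul, inv_mul_cancel₀ ha0, one_smul]⟩
  constructor <;> intro hz
  · by_cases hψ : ψ v = 0
    · exact hpar (eq_smul_of_mem_two h3 hax h.fne h.vne h.inc hψ hz h'.inc)
    · exact hno (Or.inl ⟨ψ, φ, w, h', h'.oneSided h hz hψ, hax'⟩)
  · by_cases hφ : φ w = 0
    · exact hpar (eq_smul_of_mem_two h3 hax h.fne h.vne h.inc hz hφ h'.inc)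
    · exact hno (Or.inl ⟨φ, ψ, v, h, h.oneSided h' hz hφ, hax⟩)

/-- one root group in an irreducible group of dimension three gives all transvections -/
theorem all_of_root (h3 : finrank F V = 3)
    (hirr : ∀ U : Submodule F V, (∀ h ∈ M, ∀ u ∈ U, h u ∈ U) → U = ⊥ ∨ U = ⊤) (h : Root M φ v) :
    ∀ (χ : Dual F V) (u : V), χ u = 0 → tvec χ u ∈ M := by
  by_cases hd : Double M
  · rcases hd with ⟨φ, ψ, v, h1, h2, hne⟩ | ⟨φ, v, w, h1, h2, hne⟩
    · exact all_of_centre h3 hirr h1 h2 hne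
    · exact all_of_axis h3 hirr h1 h2 hne
  exfalso
  obtain ⟨g, hg, hgv⟩ : ∃ g ∈ M, g v ∉ F ∙ v := by
    by_contra! hc
    rcases hirr (F ∙ v) fun g hg u hu => by
        obtain ⟨a, rfl⟩ := Submodule.mem_span_singleton.1 hu
        rw [map_smul]
        exact Submodule.smul_mem _ _ (hc g hg) with e | e
    · exact h.vne (Submodule.span_singleton_eq_bot.1 e)
    · have := congrArg (fun U : Submodule F V => finrank F U) e
      simp only [finrank_span_singleton h.vne, finrank_top, h3] at this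
      omega
  set w := g v with hw
  set ψ := φ.comp (g⁻¹ : V ≃ₗ[F] V).toLinearMap with hψ
  have h' : Root M ψ w := h.conj hg
  have hnp : ¬ ∃ a : F, w = a • v := fun ⟨a, ha⟩ => hgv (ha ▸ Submodule.smul_mem _ a (Submodule.mem_span_singleton_self v))
  obtain ⟨hφw, -⟩ := (same_or_opposite h3 hd h h').resolve_left hnp
  set L : Submodule F V := Submodule.span F {v, w} with hL
  have hLdim : finrank F L = 2 := by
    have := finrank_span_eq_card ((LinearIndependent.pair_iff' h.vne).2 fun a e => hnp ⟨a, e.symm⟩)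
    rwa [Matrix.range_cons, Matrix.range_cons, Matrix.range_empty, Set.union_empty, Set.singleton_union,
      Fintype.card_fin] at this
  -- a root group with centre off the line
  obtain ⟨χ, x, h'', hx⟩ : ∃ (χ : Dual F V) (x : V), Root M χ x ∧ x ∉ L := by
    by_contra! hc
    rcases hirr L fun k hk u hu => by
        obtain ⟨a, b, rfl⟩ := Submodule.mem_span_pair.1 hu
        rw [map_add, map_smul, map_smul]
        exact L.add_mem (L.smul_mem _ (hc _ _ (h.conj hk))) (L.smul_mem _ (hc _ _ (h'.conj hk))) with e | e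
    · rw [e, finrank_bot] at hLdim; omega
    · rw [e, finrank_top, h3] at hLdim; omega
  -- its axis meets the line in a centre
  obtain ⟨y, ⟨hy, hyL⟩, hy0⟩ : ∃ y ∈ LinearMap.ker χ ⊓ L, y ≠ 0 := by
    refine Submodule.exists_mem_ne_zero_of_ne_bot fun e => ?_
    have h1 := Submodule.finrank_sup_add_finrank_inf_eq (LinearMap.ker χ) L
    rw [e, finrank_bot] at h1
    have h2 := Submodule.finrank_le (LinearMap.ker χ ⊔ L)
    have := finrank_ker h''.fne
    omega
  obtain ⟨a, b, rfl⟩ := Submodule.mem_span_pair.1 hyL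
  obtain ⟨ξ, hξ⟩ : ∃ ξ : Dual F V, Root M ξ (a • v + b • w) := by
    rcases eq_or_ne b 0 with rfl | hb
    · rw [zero_smul, add_zero] at hy0 ⊢
      exact ⟨φ, h.smul_right fun e => hy0 (by rw [e, zero_smul])⟩
    · have hc : φ ((a / (b * φ w)) • v) = 0 := by rw [map_smul, h.inc, smul_zero]
      have h1 := (h'.conj (h.mem (a / (b * φ w)))).smul_right hb
      have e : b • tvec φ ((a / (b * φ w)) • v) w = a • v + b • w := by
        rw [tvec_apply hc, smul_add, smul_smul, smul_smul, add_comm]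
        congr 2
        field_simp
      exact ⟨_, e ▸ h1⟩
  rcases same_or_opposite h3 hd hξ h'' with ⟨c, hc⟩ | ⟨-, h2⟩
  · exact hx (hc ▸ L.smul_mem c hyL)
  · exact h2 hy

/-- over a prime field one transvection spans its root group -/
theorem root_of_tvec [Fintype F] (hp : (Fintype.card F).Prime) (hφv : φ v = 0) (hφ : φ ≠ 0) (hv : v ≠ 0)
    (h : tvec φ v ∈ M) : Root M φ v := by
  refine ⟨hφv, hφ, hv, fun c => ?_⟩
  obtain ⟨n, rfl⟩ : ∃ n : ℕ, (n : F) = c := by
    haveI : Fact (Fintype.card F).Prime := ⟨hp⟩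
    obtain ⟨n, hn⟩ := (ZMod.ringEquivOfPrime F hp rfl).surjective c
    exact ⟨n.val, by rw [← hn, ← map_natCast (ZMod.ringEquivOfPrime F hp rfl), ZMod.natCast_zmod_val]⟩
  induction n with
  | zero => rw [Nat.cast_zero, zero_smul, tvec_zero_right]; exact one_mem M
  | succ k ih =>
    rw [Nat.cast_succ, add_smul, one_smul, ← tvec_mul_right (by rw [map_smul, hφv, smul_zero]) hφv]
    exact mul_mem ih h

end Cfsg.Agent.ClassicalMax.SL3
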