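import Cfsg.Agent.Classical.Decomp.Full
import Cfsg.Agent.ClassicalMax.SL3.Root

/-!
Overgroups of the monomial group in dimension three: a non-monomial element fixing a coordinate line gives a root group.
-/

set_option autoImplicit false
set_option linter.unusedSectionVars false

namespace Cfsg.Agent.ClassicalMax.SL3

open Module Cfsg.Agent.Classical.Decomp

variable {F V : Type*} [Field F] [Fintype F] [AddCommGroup V] [Module F V]
  {e : Basis (Fin 3) F V} {M : Subgroup (V ≃ₗ[F] V)}

/-- `M` has determinant one and contains the monomial elements of determinant one -/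
structure Stab (e : Basis (Fin 3) F V) (M : Subgroup (V ≃ₗ[F] V)) : Prop where
  stab : ∀ g, Mono e g → LinearMap.det g.toLinearMap = 1 → g ∈ M
  det : ∀ g ∈ M, LinearMap.det g.toLinearMap = 1
  five : 5 ≤ Fintype.card F

/-- some root group lies in `M` -/
def HasRoot (M : Subgroup (V ≃ₗ[F] V)) : Prop := ∃ (φ : Dual F V) (v : V), Root M φ v

theorem cases_three {i j t : Fin 3} (hij : i ≠ j) (hit : i ≠ t) (hjt : j ≠ t) (k : Fin 3) : k = i ∨ k = j ∨ k = t := by
  revert hij hit hjt; revert i j t k; decide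

theorem sum_three {A : Type*} [AddCommMonoid A] {i j t : Fin 3} (hij : i ≠ j) (hit : i ≠ t) (hjt : j ≠ t) (f : Fin 3 → A) :
    ∑ k, f k = f i + f j + f t := by
  have hu : ({i, j, t} : Finset (Fin 3)) = Finset.univ := by
    ext k; simpa using cases_three hij hit hjt k
  rw [← hu, Finset.sum_insert (by simp [hij, hit]), Finset.sum_insert (by simp [hjt]), Finset.sum_singleton, add_assoc]

theorem prod_three {A : Type*} [CommMonoid A] {i j t : Fin 3} (hij : i ≠ j) (hit : i ≠ t) (hjt : j ≠ t) (f : Fin 3 → A) :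
    ∏ k, f k = f i * f j * f t := by
  have hu : ({i, j, t} : Finset (Fin 3)) = Finset.univ := by
    ext k; simpa using cases_three hij hit hjt k
  rw [← hu, Finset.prod_insert (by simp [hij, hit]), Finset.prod_insert (by simp [hjt]), Finset.prod_singleton, mul_assoc]

theorem decomp_three {i j t : Fin 3} (hij : i ≠ j) (hit : i ≠ t) (hjt : j ≠ t) (v : V) :
    v = e.repr v i • e i + e.repr v j • e j + e.repr v t • e t := by
  conv_lhs => rw [← e.sum_repr v]
  exact sum_three hij hit hjt _

/-- units with prescribed values at three indices -/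
def three (i j : Fin 3) (a b c : Fˣ) : Fin 3 → Fˣ := Function.update (Function.update (fun _ => c) j b) i a

theorem three_i (i j : Fin 3) (a b c : Fˣ) : three i j a b c i = a := Function.update_self ..

theorem three_j {i j : Fin 3} (h : i ≠ j) (a b c : Fˣ) : three i j a b c j = b := by
  rw [three, Function.update_of_ne h.symm, Function.update_self]

theorem three_t {i j t : Fin 3} (hi : i ≠ t) (hj : j ≠ t) (a b c : Fˣ) : three i j a b c t = c := by
  rw [three, Function.update_of_ne hi.symm, Function.update_of_ne hj.symm]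

theorem det_diag (d : Fin 3 → Fˣ) {i j t : Fin 3} (hij : i ≠ j) (hit : i ≠ t) (hjt : j ≠ t) (h : d i * d j * d t = 1) :
    LinearMap.det (monE e 1 d).toLinearMap = 1 := by
  rw [det_monE, prod_three hij hit hjt, ← Units.val_mul, ← Units.val_mul, h, Equiv.Perm.sign_one]
  simp

theorem diag_apply (d : Fin 3 → Fˣ) (i : Fin 3) : monE e 1 d (e i) = (d i : F) • e i := by
  rw [monE_basis, Equiv.Perm.one_apply]

theorem diag_inv_apply (d : Fin 3 → Fˣ) (i : Fin 3) : (monE e 1 d)⁻¹ (e i) = (d i : F)⁻¹ • e i := by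
  apply (monE e 1 d).injective
  rw [apply_inv, map_smul, diag_apply, smul_smul, inv_mul_cancel₀ (Units.ne_zero _), one_smul]

theorem diag_symm_apply (d : Fin 3 → Fˣ) (i : Fin 3) : (monE e 1 d).symm (e i) = (d i : F)⁻¹ • e i :=
  diag_inv_apply d i

variable (h : Stab e M)
include h

theorem exists_b : ∃ b : Fˣ, (b : F) ^ 3 ≠ 1 := by
  obtain ⟨b, -, hb⟩ := exists_unit_b (F := F) h.five
  exact ⟨b, fun e' => hb (Units.ext (by simpa using e'))⟩

theorem diag_mem {d : Fin 3 → Fˣ} {i j t : Fin 3} (hij : i ≠ j) (hit : i ≠ t) (hjt : j ≠ t) (hd : d i * d j * d t = 1) :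
    monE e 1 d ∈ M :=
  h.stab _ (mono_monE _ _) (det_diag d hij hit hjt hd)

/-- an elementary transvection gives its root group -/
theorem root_elem {i j : Fin 3} (hij : i ≠ j) {c : F} (hc : c ≠ 0) (hT : tvec (e.coord j) (c • e i) ∈ M) :
    Root M (e.coord j) (e i) := by
  obtain ⟨t, hit, hjt⟩ : ∃ t : Fin 3, i ≠ t ∧ j ≠ t := by clear hT; revert hij; revert i j; decide
  refine ⟨by simp [hij], fun e0 => ?_, e.ne_zero i, fun x => ?_⟩
  · have := LinearMap.congr_fun e0 (e j)
    simp at this
  rcases eq_or_ne x 0 with rfl | hx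
  · rw [zero_smul, tvec_zero_right]; exact one_mem M
  set a : Fˣ := Units.mk0 (x / c) (div_ne_zero hx hc)
  set d := three i j a 1 a⁻¹ with hd
  have hg := diag_mem h (d := d) hij hit hjt (by rw [hd, three_i, three_j hij, three_t hit hjt, mul_one, mul_inv_cancel])
  have h0 : e.coord j (c • e i) = 0 := by simp [hij]
  have := mul_mem (mul_mem hg hT) (inv_mem hg)
  rw [conj_tvec _ h0] at this
  convert this using 2
  · refine e.ext fun k => ?_
    rw [LinearMap.comp_apply, LinearEquiv.coe_coe, diag_inv_apply, map_smul]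
    rcases eq_or_ne k j with rfl | hk
    · rw [hd, three_j hij, Units.val_one, inv_one, one_smul]
    · simp [hk]
  · rw [map_smul, diag_apply, hd, three_i, smul_smul, Units.val_mk0, mul_div_cancel₀ _ hc]

/-- a transvection at a coordinate point -/
theorem root_of_centre {t : Fin 3} {ρ : Dual F V} (hρ : ρ (e t) = 0) (hρ0 : ρ ≠ 0) (hT : tvec ρ (e t) ∈ M) :
    HasRoot M := by
  obtain ⟨i, hit, hi⟩ : ∃ i, i ≠ t ∧ ρ (e i) ≠ 0 := by
    by_contra! hc
    refine hρ0 (e.ext fun k => ?_)
    rcases eq_or_ne k t with rfl | hk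
    · simpa using hρ
    · simpa using hc k hk
  obtain ⟨j, hij, hjt⟩ : ∃ j : Fin 3, i ≠ j ∧ j ≠ t := by revert hit; clear hi hT hρ; revert i t; decide
  obtain ⟨b, hb⟩ := exists_b h
  set d := three i j (b ^ 2)⁻¹ b b with hd
  have hg := diag_mem h (d := d) hij hit hjt (by
    rw [hd, three_i, three_j hij, three_t hit hjt, mul_assoc, pow_two, inv_mul_cancel])
  have hT' := mul_mem (mul_mem hg hT) (inv_mem hg)
  rw [conj_tvec _ hρ, diag_apply, hd, three_t hit hjt, ← tvec_smul] at hT'
  have h1 : ((b : F) • ρ.comp ((monE e 1 d)⁻¹ : V ≃ₗ[F] V).toLinearMap) (e t) = 0 := by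
    simp [diag_inv_apply, diag_symm_apply, hρ]
  have := mul_mem hT' (inv_mem hT)
  rw [tvec_inv hρ, tvec_mul_left h1 (by simp [hρ])] at this
  have hval : (b : F) • ρ.comp ((monE e 1 d)⁻¹ : V ≃ₗ[F] V).toLinearMap + -ρ = (((b : F) ^ 3 - 1) * ρ (e i)) • e.coord i := by
    refine e.ext fun k => ?_
    rcases cases_three hij hit hjt k with rfl | rfl | rfl
    · simp [diag_symm_apply, hd, three_i]; ring
    · simp [diag_symm_apply, hd, three_j hij, hij, hij.symm, ← mul_assoc]
    · simp [diag_symm_apply, hρ, hit, hit.symm]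
  rw [hd] at hval
  rw [hval, tvec_smul] at this
  exact ⟨_, _, root_elem h hit.symm (mul_ne_zero (sub_ne_zero.2 hb) hi) this⟩

/-- a transvection with a coordinate axis -/
theorem root_of_axis {j : Fin 3} {u : V} (hu : e.coord j u = 0) (hu0 : u ≠ 0) (hT : tvec (e.coord j) u ∈ M) :
    HasRoot M := by
  obtain ⟨i, hij, hi⟩ : ∃ i, i ≠ j ∧ e.repr u i ≠ 0 := by
    by_contra! hc
    refine hu0 (e.repr.map_eq_zero_iff.1 (Finsupp.ext fun k => ?_))
    rcases eq_or_ne k j with rfl | hk
    · simpa using hu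
    · simpa using hc k hk
  obtain ⟨t, hit, hjt⟩ : ∃ t : Fin 3, i ≠ t ∧ j ≠ t := by revert hij; clear hi hT hu; revert i j; decide
  obtain ⟨b, hb⟩ := exists_b h
  set d := three i j (b ^ 2)⁻¹ b b with hd
  have hg := diag_mem h (d := d) hij hit hjt (by
    rw [hd, three_i, three_j hij, three_t hit hjt, mul_assoc, pow_two, inv_mul_cancel])
  have hT' := mul_mem (mul_mem hg hT) (inv_mem hg)
  have hc' : (e.coord j).comp ((monE e 1 d)⁻¹ : V ≃ₗ[F] V).toLinearMap = (b : F)⁻¹ • e.coord j := by
    refine e.ext fun k => ?_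
    rw [LinearMap.comp_apply, LinearEquiv.coe_coe, diag_inv_apply, map_smul, LinearMap.smul_apply]
    rcases eq_or_ne k j with rfl | hk
    · rw [hd, three_j hij]
    · simp [hk]
  rw [conj_tvec _ hu, hc', tvec_smul] at hT'
  have huj : e.repr u j = 0 := by simpa using hu
  have hge : monE e 1 d u = ((b : F) ^ 2)⁻¹ • (e.repr u i • e i) + (b : F) • (e.repr u t • e t) := by
    conv_lhs => rw [decomp_three (e := e) hij hit hjt u]
    simp [diag_apply, hd, three_i, three_t hit hjt, huj, smul_smul, mul_comm]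
  have h1 : e.coord j ((b : F)⁻¹ • monE e 1 d u) = 0 := by rw [hge]; simp [hij, hjt.symm]
  have := mul_mem hT' (inv_mem hT)
  rw [tvec_inv hu, show tvec (-e.coord j) u = tvec (e.coord j) (-u) from by rw [← neg_one_smul F, tvec_smul, neg_one_smul],
    tvec_mul_right h1 (by rw [map_neg, hu, neg_zero])] at this
  have hval : (b : F)⁻¹ • monE e 1 d u + -u = ((((b : F) ^ 3)⁻¹ - 1) * e.repr u i) • e i := by
    rw [hge]
    conv_lhs => arg 2; rw [decomp_three (e := e) hij hit hjt u, huj]
    have := b.ne_zero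
    match_scalars <;> field_simp <;> ring
  rw [hval] at this
  exact ⟨_, _, root_elem h hij (mul_ne_zero (sub_ne_zero.2 fun e' => hb (inv_eq_one.1 e')) hi) this⟩

/-- an element preserving a coordinate line and a coordinate plane -/
theorem root_of_tri {y : V ≃ₗ[F] V} (hy : y ∈ M) {i j t : Fin 3} (hij : i ≠ j) (hit : i ≠ t) (hjt : j ≠ t)
    {γ : F} (hyt : y (e t) = γ • e t) (hc : e.repr (y (e i)) j = 0) (hb : e.repr (y (e j)) i ≠ 0) : HasRoot M := by
  obtain ⟨β, hβ⟩ := exists_b h
  set D := monE e 1 (three i j β (β ^ 2)⁻¹ β) with hD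
  have hDM : D ∈ M := diag_mem h hij hit hjt (by
    rw [three_i, three_j hij, three_t hit hjt]
    group)
  set W : Submodule F V := LinearMap.ker (e.coord j) with hW
  have hWy : ∀ w ∈ W, y w ∈ W := fun w hw => by
    have hwj : e.repr w j = 0 := hw
    rw [hW, LinearMap.mem_ker, decomp_three (e := e) hij hit hjt w, hwj]
    simp [hyt, hc, hjt.symm]
  haveI : FiniteDimensional F V := e.finiteDimensional_of_finite
  have hWy' : ∀ w ∈ W, y⁻¹ w ∈ W := fun w hw => by
    have he : W.map y.toLinearMap = W := Submodule.eq_of_le_of_finrank_eq (by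
      rintro _ ⟨x, hx, rfl⟩; exact hWy x hx) (LinearEquiv.finrank_map_eq _ _)
    rw [← he] at hw
    obtain ⟨x, hx, rfl⟩ := hw
    rwa [LinearEquiv.coe_coe, inv_apply]
  have hDW : ∀ v : V, D v = (β : F) • v + ((((β : F) ^ 2)⁻¹ - β) * e.repr v j) • e j := fun v => by
    conv_lhs => rw [decomp_three (e := e) hij hit hjt v]
    conv_rhs => arg 1; rw [decomp_three (e := e) hij hit hjt v]
    simp only [map_add, map_smul, hD, diag_apply, three_i, three_j hij, three_t hit hjt, Units.val_inv_eq_inv_val,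
      Units.val_pow_eq_pow_val]
    module
  set z := y * D * y⁻¹ * D⁻¹ with hz
  have hzM : z ∈ M := mul_mem (mul_mem (mul_mem hy hDM) (inv_mem hy)) (inv_mem hDM)
  have hDi : ∀ w ∈ W, D⁻¹ w = (β : F)⁻¹ • w := fun w hw => by
    have hwj : e.repr w j = 0 := hw
    apply D.injective
    rw [apply_inv, map_smul, hDW, hwj, mul_zero, zero_smul, add_zero, smul_smul, inv_mul_cancel₀ β.ne_zero, one_smul]
  have hzW : ∀ w ∈ W, z w = w := fun w hw => by
    have h1 : e.repr (y⁻¹ w) j = 0 := hWy' w hw
    simp only [hz, LinearEquiv.mul_apply, hDi w hw, map_smul, hDW, h1, mul_zero, zero_smul, add_zero, apply_inv, smul_smul,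
      inv_mul_cancel₀ β.ne_zero, one_smul]
  set u := z (e j) - e j with hu
  have hzv : ∀ v, z v = v + e.repr v j • u := fun v => by
    have hw : v - e.repr v j • e j ∈ W := by simp [hW]
    have := hzW _ hw
    rw [map_sub, map_smul] at this
    rw [hu, smul_sub]
    linear_combination (norm := module) this
  have huj : e.coord j u = 0 := by
    have e1 : z.toLinearMap = LinearMap.transvection (e.coord j) u := LinearMap.ext fun v => by
      rw [LinearEquiv.coe_coe, hzv]; rfl
    have := h.det z hzM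
    rwa [e1, LinearMap.transvection.det, add_eq_left] at this
  have hzT : z = tvec (e.coord j) u := LinearEquiv.ext fun v => by rw [tvec_apply huj, hzv, Basis.coord_apply]
  refine root_of_axis h huj (fun h0 => ?_) (hzT ▸ hzM)
  -- the component along `i`
  set g := e.repr (y⁻¹ (e j)) j with hg
  have hg0 : g ≠ 0 := fun h' => by
    have := hWy _ (show y⁻¹ (e j) ∈ W from h')
    simp [hW, apply_inv] at this
  have hDj : D⁻¹ (e j) = ((β : F) ^ 2) • e j := by
    rw [hD, diag_inv_apply, three_j hij, Units.val_inv_eq_inv_val, inv_inv, Units.val_pow_eq_pow_val]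
  have := congrArg (fun v => e.repr v i) h0
  simp only [hu, hz, LinearEquiv.mul_apply, hDj, map_smul, hDW, map_add, apply_inv, map_sub, map_zero, Finsupp.coe_add,
    Finsupp.coe_smul, Finsupp.coe_sub, Finsupp.coe_zero, Pi.add_apply, Pi.smul_apply, Pi.sub_apply, Pi.zero_apply,
    smul_eq_mul, Basis.repr_self, Finsupp.single_apply, if_neg hij.symm, mul_zero, zero_add, sub_zero] at this
  rw [← hg, mul_eq_zero, mul_eq_zero, mul_eq_zero] at this
  rcases this with h1 | (h1 | h1) | h1
  · exact pow_ne_zero 2 β.ne_zero h1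
  · rw [sub_eq_zero] at h1
    refine hβ ?_
    have := β.ne_zero
    field_simp at h1
    linear_combination -h1
  · exact hg0 h1
  · exact hb h1

end Cfsg.Agent.ClassicalMax.SL3
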