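import Cfsg.Agent.Classical.Decomp.Full
import Cfsg.Agent.Char.Frobenius

/-!
Two groups of homologies fixing a common point: in dimension three the group of the maps which fix the point and act
trivially modulo the plane of the two centres cannot have the stabiliser of a centre as malnormal subgroup.
-/

set_option autoImplicit false
set_option linter.unusedSectionVars false

namespace Cfsg.Agent.ClassicalMax.SL3

open Module Cfsg.Agent.ClassicalMax

variable {F : Type*} [Field F]

/-- commuting elements of `SL₂` with one trace are equal or inverse, unless scalar or with trace of square four -/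
theorem commuting_sl2 {a b c d a' b' c' d' : F} (hd : a * d - b * c = 1) (hd' : a' * d' - b' * c' = 1)
    (htr : a' + d' = a + d) (h1 : b * c' = b' * c) (h2 : b * (d' - a') = b' * (d - a)) (h3 : c * (d' - a') = c' * (d - a)) :
    (a' = a ∧ b' = b ∧ c' = c ∧ d' = d) ∨ (a' = d ∧ b' = -b ∧ c' = -c ∧ d' = a) ∨
      (a + d) ^ 2 = 4 ∨ (b = 0 ∧ c = 0 ∧ a = d) := by
  by_cases hτ : (a + d) ^ 2 = 4
  · exact Or.inr (Or.inr (Or.inl hτ))
  by_cases hbc : b = 0 ∧ c = 0
  · obtain ⟨rfl, rfl⟩ := hbc
    by_cases had : a = d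
    · exact Or.inr (Or.inr (Or.inr ⟨rfl, rfl, had⟩))
    have hne : d - a ≠ 0 := sub_ne_zero.2 (Ne.symm had)
    simp only [zero_mul, mul_zero, eq_comm (a := (0 : F)), mul_eq_zero, hne, or_false] at h2 h3
    subst h2; subst h3
    have : (a' - a) * (a' - d) = 0 := by linear_combination a' * htr - hd' + hd
    rcases mul_eq_zero.1 this with e | e
    · exact Or.inl ⟨sub_eq_zero.1 e, rfl, rfl, by linear_combination htr - e⟩
    · exact Or.inr (Or.inl ⟨sub_eq_zero.1 e, by simp, by simp, by linear_combination htr - e⟩)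
  obtain ⟨t, hb, hc, hda⟩ : ∃ t : F, b' = t * b ∧ c' = t * c ∧ d' - a' = t * (d - a) := by
    by_cases hb0 : b = 0
    · have hc0 : c ≠ 0 := fun h => hbc ⟨hb0, h⟩
      refine ⟨c' / c, ?_, by rw [div_mul_cancel₀ _ hc0], ?_⟩
      · rw [hb0, mul_zero]
        rw [hb0, zero_mul, eq_comm, mul_eq_zero] at h1
        exact h1.resolve_right hc0
      · rw [div_mul_eq_mul_div, eq_div_iff hc0]
        linear_combination h3
    · refine ⟨b' / b, by rw [div_mul_cancel₀ _ hb0], ?_, ?_⟩
      · rw [div_mul_eq_mul_div, eq_div_iff hb0]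
        linear_combination h1
      · rw [div_mul_eq_mul_div, eq_div_iff hb0]
        linear_combination h2
  subst hb; subst hc
  obtain ⟨s, e1⟩ : ∃ s, a' = t * a + s := ⟨a' - t * a, by ring⟩
  subst e1
  obtain rfl : d' = t * d + s := by linear_combination hda
  have hq : (t ^ 2 - 1) * (4 - (a + d) ^ 2) = 0 := by
    linear_combination 4 * hd' - 4 * t ^ 2 * hd - (2 * s + (a + d) * (1 + t)) * htr
  have hq' := (mul_eq_zero.1 hq).resolve_right fun e => hτ (by linear_combination -e)
  have ht : t = 1 ∨ t = -1 := by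
    rcases mul_eq_zero.1 (show (t - 1) * (t + 1) = 0 by linear_combination hq') with e | e
    · exact Or.inl (sub_eq_zero.1 e)
    · exact Or.inr (eq_neg_of_add_eq_zero_left e)
  by_cases h2' : (2 : F) = 0
  · have ht1 : t = 1 := ht.elim id fun e => by rw [e]; linear_combination -h2'
    subst ht1
    have : s * (a + d + s) = 0 := by linear_combination hd' - hd
    rcases mul_eq_zero.1 this with e | e
    · exact Or.inl ⟨by linear_combination e, by ring, by ring, by linear_combination e⟩
    · exact Or.inr (Or.inl ⟨by linear_combination e - d * h2', by linear_combination b * h2',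
        by linear_combination c * h2', by linear_combination e - a * h2'⟩)
  · rcases ht with rfl | rfl
    · have hs0 : s = 0 := (mul_eq_zero.1 (show (2 : F) * s = 0 by linear_combination htr)).resolve_left h2'
      exact Or.inl ⟨by linear_combination hs0, by ring, by ring, by linear_combination hs0⟩
    · have hs0 : s = a + d := sub_eq_zero.1
        ((mul_eq_zero.1 (show (2 : F) * (s - (a + d)) = 0 by linear_combination htr)).resolve_left h2')
      exact Or.inr (Or.inl ⟨by linear_combination hs0, by ring, by ring, by linear_combination hs0⟩)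

variable {V : Type*} [AddCommGroup V] [Module F V] [Finite V] {b : Basis (Fin 3) F V}

/-- maps fixing the third basis vector and mapping the plane of the first two to itself -/
structure Planar (b : Basis (Fin 3) F V) (g : V ≃ₗ[F] V) : Prop where
  fix : g (b 2) = b 2
  zero0 : b.repr (g (b 0)) 2 = 0
  zero1 : b.repr (g (b 1)) 2 = 0

/-- an entry -/
noncomputable def en (b : Basis (Fin 3) F V) (g : V ≃ₗ[F] V) (i j : Fin 3) : F := b.repr (g (b j)) i

namespace Planar

variable {g g' : V ≃ₗ[F] V}

theorem col (hg : Planar b g) (j : Fin 3) (hj : j ≠ 2) : g (b j) = en b g 0 j • b 0 + en b g 1 j • b 1 := by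
  conv_lhs => rw [← b.sum_repr (g (b j))]
  rw [Fin.sum_univ_three]
  fin_cases j
  · simp [en, hg.zero0]
  · simp [en, hg.zero1]
  · exact absurd rfl hj

theorem det_eq (hg : Planar b g) : LinearMap.det g.toLinearMap = en b g 0 0 * en b g 1 1 - en b g 0 1 * en b g 1 0 := by
  rw [← LinearMap.det_toMatrix b, Matrix.det_fin_three]
  simp [LinearMap.toMatrix_apply, en, hg.fix, hg.zero0, hg.zero1]

theorem ext' (hg : Planar b g) (hg' : Planar b g') (h : ∀ i j : Fin 3, i ≠ 2 → j ≠ 2 → en b g i j = en b g' i j) : g = g' := by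
  refine LinearEquiv.toLinearMap_injective (b.ext fun k => ?_)
  rw [LinearEquiv.coe_coe, LinearEquiv.coe_coe]
  fin_cases k
  · show g (b 0) = g' (b 0)
    rw [hg.col 0 (by decide), hg'.col 0 (by decide), h 0 0 (by decide) (by decide), h 1 0 (by decide) (by decide)]
  · show g (b 1) = g' (b 1)
    rw [hg.col 1 (by decide), hg'.col 1 (by decide), h 0 1 (by decide) (by decide), h 1 1 (by decide) (by decide)]
  · exact hg.fix.trans hg'.fix.symm

theorem en_mul (hg : Planar b g) (hg' : Planar b g') (i j : Fin 3) (hj : j ≠ 2) :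
    en b (g * g') i j = en b g i 0 * en b g' 0 j + en b g i 1 * en b g' 1 j := by
  show b.repr (g (g' (b j))) i = _
  rw [hg'.col j hj, map_add, map_smul, map_smul, map_add, map_smul, map_smul]
  simp [en, mul_comm]

end Planar

/-- the configuration: planar maps among which those fixing the first line are dilations of it, and two of them with
different fixed lines -/
structure Frame (b : Basis (Fin 3) F V) (G : Subgroup (V ≃ₗ[F] V)) (h h' : V ≃ₗ[F] V) : Prop where
  planar : ∀ g ∈ G, Planar b g
  stab : ∀ g ∈ G, en b g 1 0 = 0 → en b g 0 1 = 0 ∧ en b g 1 1 = 1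
  mem : h ∈ G
  mem' : h' ∈ G
  fixes : en b h 1 0 = 0
  sq : en b h 0 0 ^ 2 ≠ 1
  moves : en b h' 1 0 ≠ 0
  moves' : en b h' 0 1 ≠ 0

variable {G : Subgroup (V ≃ₗ[F] V)} {h h' : V ≃ₗ[F] V}

theorem Frame.h_col (hF : Frame b G h h') :
    h (b 0) = en b h 0 0 • b 0 ∧ h (b 1) = b 1 ∧ h (b 2) = b 2 := by
  obtain ⟨h01, h11⟩ := hF.stab h hF.mem hF.fixes
  have hp := hF.planar h hF.mem
  refine ⟨?_, ?_, hp.fix⟩
  · rw [hp.col 0 (by decide), hF.fixes, zero_smul, add_zero]
  · rw [hp.col 1 (by decide), h01, h11, zero_smul, zero_add, one_smul]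

/-- there is no such configuration -/
theorem Frame.false [Finite F] (hF : Frame b G h h') : False := by
  classical
  haveI : Fintype F := Fintype.ofFinite F
  obtain ⟨p, hp⟩ := CharP.exists F
  haveI : Fact p.Prime := ⟨CharP.char_is_prime F p⟩
  haveI : Finite (V ≃ₗ[F] V) := Finite.of_injective (fun g => (g : V → V)) DFunLike.coe_injective
  let H : Subgroup G :=
    { carrier := {g | en b (g : V ≃ₗ[F] V) 1 0 = 0}
      mul_mem' := fun {x y} hx hy => by
        show en b ((x : V ≃ₗ[F] V) * y) 1 0 = 0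
        rw [(hF.planar _ x.2).en_mul (hF.planar _ y.2) 1 0 (by decide), hx, hy]
        ring
      one_mem' := by simp [en]
      inv_mem' := fun {x} hx => by
        have h1 := (hF.planar _ (x⁻¹).2).en_mul (hF.planar _ x.2) 1 0 (by decide)
        rw [Subgroup.coe_inv, inv_mul_cancel] at h1
        have hx' : en b (x : V ≃ₗ[F] V) 1 0 = 0 := hx
        rw [hx', mul_zero, add_zero] at h1
        have h0 : en b (x : V ≃ₗ[F] V) 0 0 ≠ 0 := fun e => by
          have := (hF.planar _ x.2).col 0 (by decide)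
          rw [hx', e, zero_smul, zero_smul, add_zero] at this
          exact b.ne_zero 0 ((x : V ≃ₗ[F] V).map_eq_zero_iff.1 this)
        show en b (x : V ≃ₗ[F] V)⁻¹ 1 0 = 0
        rw [show en b (1 : V ≃ₗ[F] V) 1 0 = 0 by simp [en], eq_comm, mul_eq_zero] at h1
        exact h1.resolve_right h0 }
  -- elements of the stabiliser
  have hH : ∀ a : G, a ∈ H → (a : V ≃ₗ[F] V) (b 0) = en b (a : V ≃ₗ[F] V) 0 0 • b 0 ∧
      (a : V ≃ₗ[F] V) (b 1) = b 1 ∧ (en b (a : V ≃ₗ[F] V) 0 0 = 1 → a = 1) := by
    intro a ha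
    obtain ⟨h01, h11⟩ := hF.stab _ a.2 ha
    have hp := hF.planar _ a.2
    have e0 : (a : V ≃ₗ[F] V) (b 0) = en b (a : V ≃ₗ[F] V) 0 0 • b 0 := by
      rw [hp.col 0 (by decide), show en b (a : V ≃ₗ[F] V) 1 0 = 0 from ha, zero_smul, add_zero]
    have e1 : (a : V ≃ₗ[F] V) (b 1) = b 1 := by rw [hp.col 1 (by decide), h01, h11, zero_smul, zero_add, one_smul]
    refine ⟨e0, e1, fun he => Subtype.ext (LinearEquiv.toLinearMap_injective (b.ext fun k => ?_))⟩
    rw [LinearEquiv.coe_coe, LinearEquiv.coe_coe]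
    fin_cases k
    · show (a : V ≃ₗ[F] V) (b 0) = b 0
      rw [e0, he, one_smul]
    · exact e1
    · exact hp.fix
  have hmal : ∀ g : G, g ∉ H → ∀ a ∈ H, g * a * g⁻¹ ∈ H → a = 1 := by
    intro g hg a ha hga
    obtain ⟨e0, -, hone⟩ := hH a ha
    obtain ⟨f0, f1, -⟩ := hH _ hga
    refine hone ?_
    set ω := en b (a : V ≃ₗ[F] V) 0 0
    set ω' := en b ((g * a * g⁻¹ : G) : V ≃ₗ[F] V) 0 0
    have hp := hF.planar _ g.2
    have e2 : ((g * a * g⁻¹ : G) : V ≃ₗ[F] V) ((g : V ≃ₗ[F] V) (b 0)) = ω • (g : V ≃ₗ[F] V) (b 0) := by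
      rw [Subgroup.coe_mul, Subgroup.coe_mul, Subgroup.coe_inv, LinearEquiv.mul_apply, LinearEquiv.mul_apply, inv_apply,
        e0, map_smul]
    rw [hp.col 0 (by decide), map_add, map_smul, map_smul, f0, f1] at e2
    have := congrArg (fun v => b.repr v 1) e2
    simp at this
    exact (mul_eq_right₀ hg).1 this.symm
  obtain ⟨N, hN, hcompl, -⟩ := Cfsg.Agent.Char.frobenius_kernel H hmal
  have hdisj : ∀ x : G, x ∈ N → x ∈ H → x = 1 := fun x hxN hxH => by
    have := hcompl.disjoint.le_bot (show x ∈ N ⊓ H from ⟨hxN, hxH⟩)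
    simpa using this
  have hfpf : ∀ a ∈ H, a ≠ 1 → ∀ n ∈ N, a * n = n * a → n = 1 := fun a ha ha1 n hn hc => by
    by_contra hn1
    refine ha1 (hmal n (fun hnH => hn1 (hdisj n hn hnH)) a ha ?_)
    rwa [← hc, mul_inv_cancel_right]
  set hG : G := ⟨h, hF.mem⟩
  have hhH : hG ∈ H := hF.fixes
  have hh1 : hG ≠ 1 := fun e => hF.sq (by
    have : h = 1 := congrArg Subtype.val e
    simp [this, en])
  -- commutators fill the kernel
  have hsurj : ∀ m ∈ N, ∃ n ∈ N, n⁻¹ * hG * n * hG⁻¹ = m := by
    let f : N → N := fun n => ⟨(n : G)⁻¹ * hG * n * hG⁻¹, by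
      rw [mul_assoc, mul_assoc]
      exact mul_mem (inv_mem n.2) (by rw [← mul_assoc]; exact hN.conj_mem _ n.2 _)⟩
    have hinj : Function.Injective f := fun x y e => by
      have e' : (x : G)⁻¹ * hG * x = (y : G)⁻¹ * hG * y := mul_right_cancel (congrArg Subtype.val e)
      have h2 := congrArg (fun z => (y : G) * z * (x : G)⁻¹) e'
      simp only [mul_assoc, mul_inv_cancel, mul_one, mul_inv_cancel_left] at h2
      have := hfpf hG hhH hh1 ((y : G) * (x : G)⁻¹) (mul_mem y.2 (inv_mem x.2)) (by rw [← h2, mul_assoc])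
      exact Subtype.ext (mul_inv_eq_one.1 this).symm
    intro m hm
    obtain ⟨n, hn⟩ := (Finite.injective_iff_surjective.1 hinj) ⟨m, hm⟩
    exact ⟨n, n.2, congrArg Subtype.val hn⟩
  have hdetN : ∀ m : G, m ∈ N → LinearMap.det (m : V ≃ₗ[F] V).toLinearMap = 1 := by
    intro m hm
    obtain ⟨n, -, rfl⟩ := hsurj m hm
    simp only [Subgroup.coe_mul, Subgroup.coe_inv, Cfsg.Agent.Classical.Decomp.det_mul, Cfsg.Agent.Classical.Decomp.det_inv]
    have h1 := (n : V ≃ₗ[F] V).isUnit_det'.ne_zero
    have h2 := (hG : V ≃ₗ[F] V).isUnit_det'.ne_zero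
    field_simp
  have hNne : N ≠ ⊥ := fun e => by
    have ht : H = ⊤ := by simpa [e] using hcompl.sup_eq_top
    exact hF.moves (show (⟨h', hF.mem'⟩ : G) ∈ H from ht ▸ Subgroup.mem_top _)
  by_cases hpN : IsPGroup p N
  · -- a fixed line
    let W : Submodule F V :=
      { carrier := {w | ∀ n : G, n ∈ N → (n : V ≃ₗ[F] V) w = w}
        add_mem' := fun hx hy n hn => by rw [map_add, hx n hn, hy n hn]
        zero_mem' := fun n _ => map_zero _
        smul_mem' := fun c x hx n hn => by rw [map_smul, hx n hn] }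
    have hWinv : ∀ g : G, ∀ w ∈ W, (g : V ≃ₗ[F] V) w ∈ W := fun g w hw n hn => by
      have h1 := hw _ (hN.conj_mem n hn g⁻¹)
      rw [inv_inv, Subgroup.coe_mul, Subgroup.coe_mul, Subgroup.coe_inv, LinearEquiv.mul_apply, LinearEquiv.mul_apply] at h1
      have := congrArg (g : V ≃ₗ[F] V) h1
      rwa [apply_inv] at this
    -- a fixed vector in the plane
    let L : Submodule F V := LinearMap.ker (b.coord 2)
    have hLinv : ∀ g : G, ∀ w ∈ L, (g : V ≃ₗ[F] V) w ∈ L := fun g w hw => by
      have hp := hF.planar _ g.2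
      have hw' : b.repr w 2 = 0 := hw
      show b.repr ((g : V ≃ₗ[F] V) w) 2 = 0
      conv_lhs => rw [← b.sum_repr w, Fin.sum_univ_three]
      simp [hp.zero0, hp.zero1, hw']
    obtain ⟨w, hwW, hwL, hw0⟩ : ∃ w, w ∈ W ∧ w ∈ L ∧ w ≠ 0 := by
      let act : MulAction N L :=
        { smul := fun n w => ⟨((n : G) : V ≃ₗ[F] V) w, hLinv _ _ w.2⟩
          one_smul := fun w => Subtype.ext rfl
          mul_smul := fun n m w => Subtype.ext rfl }
      letI := act
      haveI : Nontrivial L := ⟨⟨⟨b 0, by simp [L]⟩, 0, fun e => b.ne_zero 0 (congrArg Subtype.val e)⟩⟩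
      have hpL : p ∣ Nat.card L := by
        have hfr : Module.finrank F L ≠ 0 := (Module.finrank_pos (R := F) (M := L)).ne'
        rw [Module.natCard_eq_pow_finrank (K := F)]
        refine dvd_pow ?_ hfr
        obtain ⟨n, -, hn⟩ := FiniteField.card F p
        rw [Nat.card_eq_fintype_card, hn]
        exact dvd_pow_self p n.ne_zero
      obtain ⟨w, hw, hne⟩ := hpN.exists_fixed_point_of_prime_dvd_card_of_fixed_point L hpL (a := (0 : L))
        (fun n => Subtype.ext (map_zero ((n : G) : V ≃ₗ[F] V)))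
      exact ⟨w, fun n hn => congrArg Subtype.val (hw ⟨n, hn⟩), w.2, fun e => hne (Subtype.ext e).symm⟩
    have hw2 : b.repr w 2 = 0 := hwL
    set x := b.repr w 0 with hx
    set y := b.repr w 1 with hy
    have hwxy : w = x • b 0 + y • b 1 := by
      conv_lhs => rw [← b.sum_repr w, Fin.sum_univ_three, hw2, zero_smul, add_zero]
    -- the fixed space meets the plane in a line
    have hprop : ∀ w', w' ∈ W → w' ∈ L → b.repr w' 1 * x = b.repr w' 0 * y := by
      intro w' h1 h2
      by_contra hne
      have h2' : b.repr w' 2 = 0 := h2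
      have hw' : w' = b.repr w' 0 • b 0 + b.repr w' 1 • b 1 := by
        conv_lhs => rw [← b.sum_repr w', Fin.sum_univ_three, h2', zero_smul, add_zero]
      set D := b.repr w' 1 * x - b.repr w' 0 * y with hD
      have hD0 : D ≠ 0 := sub_ne_zero.2 hne
      have e0 : b 0 = (b.repr w' 1 / D) • w - (y / D) • w' := by
        rw [hwxy, hw']
        simp only [map_add, map_smul, Basis.repr_self, Finsupp.add_apply, Finsupp.smul_apply, smul_eq_mul]
        match_scalars <;> simp <;> field_simp <;> simp [hD] <;> ring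
      have e1 : b 1 = (-(b.repr w' 0) / D) • w + (x / D) • w' := by
        rw [hwxy, hw']
        simp only [map_add, map_smul, Basis.repr_self, Finsupp.add_apply, Finsupp.smul_apply, smul_eq_mul]
        match_scalars <;> simp <;> field_simp <;> simp [hD] <;> ring
      refine hNne (le_bot_iff.1 fun n hn => Subgroup.mem_bot.2 (Subtype.ext (LinearEquiv.toLinearMap_injective (b.ext fun k => ?_))))
      rw [LinearEquiv.coe_coe, LinearEquiv.coe_coe]
      fin_cases k
      · exact (e0 ▸ W.sub_mem (W.smul_mem _ hwW) (W.smul_mem _ h1) : b 0 ∈ W) n hn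
      · exact (e1 ▸ W.add_mem (W.smul_mem _ hwW) (W.smul_mem _ h1) : b 1 ∈ W) n hn
      · exact (hF.planar _ n.2).fix
    obtain ⟨c0, c1, -⟩ := hF.h_col
    have hh := hprop _ (hWinv hG w hwW) (hLinv hG w hwL)
    have hh' := hprop _ (hWinv ⟨h', hF.mem'⟩ w hwW) (hLinv ⟨h', hF.mem'⟩ w hwL)
    have hp' := hF.planar h' hF.mem'
    set s := en b h 0 0 with hs
    have ex : (hG : V ≃ₗ[F] V) w = (x * s) • b 0 + y • b 1 := by
      show h w = _
      conv_lhs => rw [hwxy, map_add, map_smul, map_smul, c0, c1, smul_smul]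
    have ex' : ((⟨h', hF.mem'⟩ : G) : V ≃ₗ[F] V) w =
        (x * en b h' 0 0 + y * en b h' 0 1) • b 0 + (x * en b h' 1 0 + y * en b h' 1 1) • b 1 := by
      show h' w = _
      conv_lhs => rw [hwxy, map_add, map_smul, map_smul, hp'.col 0 (by decide), hp'.col 1 (by decide)]
      module
    rw [ex] at hh
    rw [ex'] at hh'
    simp at hh hh'
    have hxy : x * y * (s - 1) = 0 := by linear_combination -hh
    have hs1 : s - 1 ≠ 0 := fun e => hF.sq (by rw [← hs, sub_eq_zero.1 e, one_pow])
    simp only [mul_eq_zero, hs1, or_false] at hxy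
    rcases hxy with e | e
    · have hy0 : y ≠ 0 := fun e' => hw0 (by rw [hwxy, e, e', zero_smul, zero_smul, add_zero])
      rw [e] at hh'
      simp [hy0] at hh'
      exact hF.moves' hh'
    · have hx0 : x ≠ 0 := fun e' => hw0 (by rw [hwxy, e, e', zero_smul, zero_smul, add_zero])
      rw [e] at hh'
      simp [hx0] at hh'
      exact hF.moves hh'
  · -- a semisimple element of prime order normalised by `h`
    haveI : Finite N := Subtype.finite
    obtain ⟨r, hr, hrd, hrp⟩ : ∃ r : ℕ, r.Prime ∧ r ∣ Nat.card N ∧ r ≠ p := by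
      by_contra! hc
      refine hpN (IsPGroup.of_card (n := (Nat.card N).primeFactorsList.length) ?_)
      exact Nat.eq_prime_pow_of_unique_prime_dvd (Nat.card_pos.ne') fun {d} hd hdd => hc d hd hdd
    haveI : Fact r.Prime := ⟨hr⟩
    haveI := hN
    obtain ⟨P⟩ : Nonempty (Sylow r N) := inferInstance
    have hfr := Sylow.normalizer_sup_eq_top P
    obtain ⟨g, hg, n₀, hn₀, hgn⟩ := Subgroup.mem_sup_of_normal_right.1 (hfr ▸ Subgroup.mem_top hG)
    set P' := (P : Subgroup N).map N.subtype with hP'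
    -- move `g` to `h`
    have hgh : g * hG⁻¹ ∈ N := by
      rw [show g = hG * n₀⁻¹ by rw [← hgn, mul_inv_cancel_right]]
      exact hN.conj_mem _ (inv_mem hn₀) _
    obtain ⟨n, hn, hne⟩ := hsurj _ hgh
    have hgconj : g = n⁻¹ * hG * n := (mul_right_cancel hne).symm
    have hrc : r ∣ Nat.card (P : Subgroup N) := P.dvd_card_of_dvd_card hrd
    haveI : Nontrivial (P : Subgroup N) := Finite.one_lt_card_iff_nontrivial.1
      (lt_of_lt_of_le hr.one_lt (Nat.le_of_dvd Nat.card_pos hrc))
    haveI := IsPGroup.center_nontrivial P.isPGroup'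
    obtain ⟨z₀, hz₀⟩ := exists_prime_orderOf_dvd_card' r (G := Subgroup.center (P : Subgroup N))
      (by
        obtain ⟨m, hm, hcard⟩ := (P.isPGroup'.to_subgroup (Subgroup.center (P : Subgroup N))).nontrivial_iff_card.1 inferInstance
        rw [hcard]
        exact dvd_pow_self r hm.ne')
    set z : G := (((z₀ : (P : Subgroup N)) : N) : G) with hz
    have hzP : z ∈ P' := ⟨_, (z₀ : (P : Subgroup N)).2, rfl⟩
    have hzc : ∀ q ∈ P', q * z = z * q := by
      rintro _ ⟨q, hq, rfl⟩
      exact congrArg (fun v : (P : Subgroup N) => ((v : N) : G)) (Subgroup.mem_center_iff.1 z₀.2 ⟨q, hq⟩)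
    have hzord : orderOf z = r := by
      rw [← hz₀, hz, Subgroup.orderOf_coe, Subgroup.orderOf_coe, Subgroup.orderOf_coe]
    set k : G := n * z * n⁻¹ with hk
    have hkN : k ∈ N := hN.conj_mem _ ((z₀ : (P : Subgroup N)) : N).2 _
    have hk1 : k ≠ 1 := fun e => by
      rw [hk, conj_eq_one_iff] at e
      rw [e, orderOf_one] at hzord
      exact hr.one_lt.ne hzord
    have hgz : g * z * g⁻¹ ∈ P' := (Subgroup.mem_normalizer_iff.1 hg z).1 hzP
    have hcomm : k * (hG * k * hG⁻¹) = (hG * k * hG⁻¹) * k := by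
      have h1 := hzc _ hgz
      rw [hgconj] at h1
      have h2 := congrArg (fun v => n * v * n⁻¹) h1
      rw [hk]
      simp only [mul_assoc, mul_inv_rev, inv_inv, mul_inv_cancel, mul_one, mul_inv_cancel_left, inv_mul_cancel_left] at h2 ⊢
      exact h2.symm
    set k' : G := hG * k * hG⁻¹ with hk'
    have hk'N : k' ∈ N := hN.conj_mem _ hkN _
    have hp1 := hF.planar _ k.2
    have hp2 := hF.planar _ k'.2
    obtain ⟨c0, c1, c2⟩ := hF.h_col
    set s := en b h 0 0 with hs
    have hs0 : s ≠ 0 := fun e => b.ne_zero 0 (h.map_eq_zero_iff.1 (by rw [c0, e, zero_smul]))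
    set A := en b (k : V ≃ₗ[F] V) 0 0 with hA
    set B := en b (k : V ≃ₗ[F] V) 0 1 with hB
    set C := en b (k : V ≃ₗ[F] V) 1 0 with hC
    set D := en b (k : V ≃ₗ[F] V) 1 1 with hD
    have hdet : A * D - B * C = 1 := hp1.det_eq.symm.trans (hdetN k hkN)
    have i0 : (h⁻¹ : V ≃ₗ[F] V) (b 0) = s⁻¹ • b 0 := by
      apply h.injective
      rw [apply_inv, map_smul, c0, smul_smul, inv_mul_cancel₀ hs0, one_smul]
    have i1 : (h⁻¹ : V ≃ₗ[F] V) (b 1) = b 1 := by
      apply h.injective
      rw [apply_inv, c1]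
    have e0 : (k' : V ≃ₗ[F] V) (b 0) = A • b 0 + (C / s) • b 1 := by
      simp only [hk', Subgroup.coe_mul, Subgroup.coe_inv, LinearEquiv.mul_apply]
      show h ((k : V ≃ₗ[F] V) ((h⁻¹ : V ≃ₗ[F] V) (b 0))) = _
      rw [i0, map_smul, hp1.col 0 (by decide)]
      simp only [map_smul, map_add, c0, c1]
      simp only [← hA, ← hB, ← hC, ← hD]
      match_scalars <;> field_simp
    have e1 : (k' : V ≃ₗ[F] V) (b 1) = (s * B) • b 0 + D • b 1 := by
      simp only [hk', Subgroup.coe_mul, Subgroup.coe_inv, LinearEquiv.mul_apply]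
      show h ((k : V ≃ₗ[F] V) ((h⁻¹ : V ≃ₗ[F] V) (b 1))) = _
      rw [i1, hp1.col 1 (by decide)]
      simp only [map_add, map_smul, c0, c1, ← hA, ← hB, ← hC, ← hD]
      match_scalars <;> ring
    have a00 : en b (k' : V ≃ₗ[F] V) 0 0 = A := by simp [en, e0]
    have a10 : en b (k' : V ≃ₗ[F] V) 1 0 = C / s := by simp [en, e0]
    have a01 : en b (k' : V ≃ₗ[F] V) 0 1 = s * B := by simp [en, e1]
    have a11 : en b (k' : V ≃ₗ[F] V) 1 1 = D := by simp [en, e1]
    have hcm : (k : V ≃ₗ[F] V) * k' = k' * k := congrArg Subtype.val hcomm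
    have m00 := congrArg (fun v => en b v 0 0) hcm
    have m01 := congrArg (fun v => en b v 0 1) hcm
    have m10 := congrArg (fun v => en b v 1 0) hcm
    simp only [hp1.en_mul hp2 _ _ (by decide : (0 : Fin 3) ≠ 2), hp2.en_mul hp1 _ _ (by decide : (0 : Fin 3) ≠ 2),
      hp1.en_mul hp2 _ _ (by decide : (1 : Fin 3) ≠ 2), hp2.en_mul hp1 _ _ (by decide : (1 : Fin 3) ≠ 2),
      a00, a10, a01, a11, ← hA, ← hB, ← hC, ← hD] at m00 m01 m10
    have hscalar : B = 0 → C = 0 → A = D → False := fun hb hc had => by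
      refine hk1 (hfpf hG hhH hh1 k hkN (Subtype.ext ?_))
      have : k' = k := Subtype.ext (hp2.ext' hp1 fun i j hi hj => by
        fin_cases i <;> fin_cases j <;>
          first | exact absurd rfl hi | exact absurd rfl hj | simp [a00, a01, a10, a11, hb, hc, ← hA, ← hB, ← hC, ← hD])
      rw [hk', mul_inv_eq_iff_eq_mul] at this
      exact congrArg Subtype.val this
    rcases commuting_sl2 (a := A) (b := B) (c := C) (d := D) (a' := A) (b' := s * B) (c' := C / s) (d' := D)
        hdet (by rw [← hdet]; field_simp) rfl (by linear_combination m00)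
        (by linear_combination m01) (by linear_combination -m10) with
      ⟨-, eb, ec, -⟩ | ⟨ea, eb, ec, -⟩ | hτ | ⟨hb, hc, had⟩
    · -- `h` centralises
      refine hk1 (hfpf hG hhH hh1 k hkN ?_)
      have : k' = k := Subtype.ext (hp2.ext' hp1 fun i j hi hj => by
        fin_cases i <;> fin_cases j <;>
          first | exact absurd rfl hi | exact absurd rfl hj | simp [a00, a01, a10, a11, eb, ec, ← hA, ← hB, ← hC, ← hD])
      rwa [hk', mul_inv_eq_iff_eq_mul] at this
    · -- `h²` centralises
      have hb : B = 0 := by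
        rcases mul_eq_zero.1 (show B * (s + 1) = 0 by linear_combination eb) with e | e
        · exact e
        · exact absurd (by linear_combination (s - 1) * e : s ^ 2 = 1) hF.sq
      have hc : C = 0 := by
        rw [div_eq_iff hs0] at ec
        rcases mul_eq_zero.1 (show C * (s + 1) = 0 by linear_combination ec) with e | e
        · exact e
        · exact absurd (by linear_combination (s - 1) * e : s ^ 2 = 1) hF.sq
      exact hscalar hb hc ea
    · -- a root of unity with a multiple eigenvalue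
      obtain ⟨ε, hε, hεsum⟩ : ∃ ε : F, ε * ε = 1 ∧ A + D = 2 * ε := by
        by_cases h2 : (2 : F) = 0
        · exact ⟨1, one_mul 1, by
            have h4 : (A + D) ^ 2 = 0 := by linear_combination hτ + 2 * h2
            rw [pow_eq_zero_iff (by norm_num)] at h4
            rw [h4, h2, zero_mul]⟩
        · refine ⟨(A + D) / 2, ?_, by field_simp⟩
          field_simp
          linear_combination hτ
      set N0 := A - ε with hN0
      have hN3 : D - ε = -N0 := by rw [hN0]; linear_combination hεsum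
      have hsq : N0 * N0 + B * C = 0 := by
        rw [hN0]
        linear_combination A * hεsum - hdet + hε
      have hpow : ∀ m : ℕ, ((k : V ≃ₗ[F] V) ^ m) (b 0) =
          (ε ^ m + (m : F) * ε ^ (m + 1) * N0) • b 0 + ((m : F) * ε ^ (m + 1) * C) • b 1 ∧
          ((k : V ≃ₗ[F] V) ^ m) (b 1) = ((m : F) * ε ^ (m + 1) * B) • b 0 + (ε ^ m - (m : F) * ε ^ (m + 1) * N0) • b 1 := by
        intro m
        induction m with
        | zero => simp
        | succ m ih =>
          rw [pow_succ', LinearEquiv.mul_apply, LinearEquiv.mul_apply, ih.1, ih.2]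
          simp only [map_add, map_smul, hp1.col 0 (by decide), hp1.col 1 (by decide), ← hA, ← hB, ← hC, ← hD]
          rw [show A = ε + N0 by rw [hN0]; ring, show D = ε - N0 by linear_combination hN3]
          push_cast
          constructor <;> match_scalars <;> ring_nf
          · linear_combination (m : F) * ε ^ m * ε * hsq - ε ^ m * N0 * hε
          · linear_combination -ε ^ m * C * hε
          · linear_combination -ε ^ m * B * hε
          · linear_combination (m : F) * ε ^ m * ε * hsq + ε ^ m * N0 * hε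
      have hkr : (k : V ≃ₗ[F] V) ^ r = 1 := by
        have : k ^ r = 1 := by
          rw [hk, conj_pow, ← hzord, pow_orderOf_eq_one, mul_one, mul_inv_cancel]
        rw [← SubmonoidClass.coe_pow, this]
        rfl
      obtain ⟨q0, q1⟩ := hpow r
      rw [hkr] at q0 q1
      have hrF : (r : F) ≠ 0 := fun e => by
        rw [CharP.cast_eq_zero_iff F p] at e
        exact hrp ((Nat.prime_dvd_prime_iff_eq Fact.out hr).1 e).symm
      have hε0 : ε ≠ 0 := fun e => by rw [e, mul_zero] at hε; exact zero_ne_one hε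
      have r00 := congrArg (fun v => b.repr v 0) q0
      have r10 := congrArg (fun v => b.repr v 1) q0
      have r01 := congrArg (fun v => b.repr v 0) q1
      have r11 := congrArg (fun v => b.repr v 1) q1
      simp at r00 r10 r01 r11
      simp [hrF, hε0, eq_comm (a := (0 : F))] at r10 r01
      have hN00 : N0 = 0 := by
        rw [r10, mul_zero, add_zero] at hsq
        exact mul_self_eq_zero.1 hsq
      exact hscalar r01 r10 (by rw [hN00, neg_zero] at hN3; rw [sub_eq_zero.1 hN3, sub_eq_zero.1 hN00])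
    · exact hscalar hb hc had

end Cfsg.Agent.ClassicalMax.SL3
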