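import Cfsg.Agent.ClassicalMax.SL3.MonoFix

/-!
Overgroups of the monomial group in dimension three: every non-monomial element fixing a coordinate line leads to a
root group.
-/

set_option autoImplicit false
set_option linter.unusedSectionVars false

namespace Cfsg.Agent.ClassicalMax.SL3

open Module Cfsg.Agent.Classical.Decomp

variable {F V : Type*} [Field F] [Fintype F] [AddCommGroup V] [Module F V]
  {e : Basis (Fin 3) F V} {M : Subgroup (V ≃ₗ[F] V)} (h : Stab e M)

variable {y : V ≃ₗ[F] V} {i j t : Fin 3} {γ : F}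

theorem gamma_ne (hyt : y (e t) = γ • e t) : γ ≠ 0 := by
  rintro rfl
  rw [zero_smul] at hyt
  exact e.ne_zero t (y.map_eq_zero_iff.1 hyt)

/-- a column inside the fixed line forces a zero vector -/
theorem col_ne (hij : i ≠ j) (hit : i ≠ t) (hjt : j ≠ t) (hyt : y (e t) = γ • e t)
    (h1 : e.repr (y (e i)) i = 0) (h2 : e.repr (y (e i)) j = 0) : False := by
  have h3 : y (e i) = (e.repr (y (e i)) t / γ) • y (e t) := by
    conv_lhs => rw [decomp_three (e := e) hij hit hjt (y (e i))]
    rw [h1, h2, zero_smul, zero_smul, zero_add, zero_add, hyt, smul_smul, div_mul_cancel₀ _ (gamma_ne hyt)]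
  rw [← map_smul] at h3
  have := congrArg (fun v => e.repr v i) (y.injective h3)
  simp [hit] at this

include h

/-- a vanishing entry off the diagonal of the block -/
theorem off_zero (hy : y ∈ M) (hn : ¬ Mono e y) (hij : i ≠ j) (hit : i ≠ t) (hjt : j ≠ t) (hyt : y (e t) = γ • e t)
    (hz : e.repr (y (e i)) j = 0 ∨ e.repr (y (e j)) i = 0) : HasRoot M := by
  by_cases hc : e.repr (y (e i)) j = 0
  · by_cases hb : e.repr (y (e j)) i = 0
    · set a := e.repr (y (e i)) i
      set d := e.repr (y (e j)) j
      have ha : a ≠ 0 := fun h0 => col_ne hij hit hjt hyt h0 hc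
      have hd : d ≠ 0 := fun h0 => col_ne hij.symm hjt hit hyt h0 hb
      set D := monE e 1 (three i j (Units.mk0 a ha) (Units.mk0 d hd) (Units.mk0 γ (gamma_ne hyt))) with hD
      set ρ : Dual F V := (e.repr (y (e i)) t / γ) • e.coord i + (e.repr (y (e j)) t / γ) • e.coord j with hρ
      have hρt : ρ (e t) = 0 := by simp [hρ, hit, hjt]
      have hγ := gamma_ne hyt
      have hy' : y = D * tvec ρ (e t) := by
        refine LinearEquiv.toLinearMap_injective (e.ext fun k => ?_)
        rw [LinearEquiv.coe_coe, LinearEquiv.coe_coe, LinearEquiv.mul_apply, tvec_apply hρt, map_add, map_smul]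
        rcases cases_three hij hit hjt k with rfl | rfl | rfl
        · conv_lhs => rw [decomp_three (e := e) hij hit hjt (y (e k)), hc]
          simp [hD, diag_apply, three_i, three_t hit hjt, hρ, hij, smul_smul, div_mul_cancel₀ _ hγ, a]
        · conv_lhs => rw [decomp_three (e := e) hij hit hjt (y (e k)), hb]
          simp [hD, diag_apply, three_j hij, three_t hit hjt, hρ, hij.symm, smul_smul, div_mul_cancel₀ _ hγ, d]
        · simp [hD, diag_apply, three_t hit hjt, hyt, hρt]
      have hDdet : LinearMap.det D.toLinearMap = 1 := by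
        have := h.det y hy
        rwa [hy', det_mul, det_tvec_basis, mul_one] at this
      have hDM : D ∈ M := h.stab _ (mono_monE _ _) hDdet
      have hT : tvec ρ (e t) ∈ M := by
        rw [show tvec ρ (e t) = D⁻¹ * y by rw [hy', inv_mul_cancel_left]]
        exact mul_mem (inv_mem hDM) hy
      refine root_of_centre h hρt (fun h0 => hn ?_) hT
      rw [hy', h0, tvec_zero_left, mul_one]
      exact mono_monE _ _
    · exact root_of_tri h hy hij hit hjt hyt hc hb
  · exact root_of_tri h hy hij.symm hjt hit hyt (hz.resolve_left hc) hc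
where
  det_tvec_basis {ρ : Dual F V} {v : V} : LinearMap.det (tvec ρ v : V ≃ₗ[F] V).toLinearMap = 1 :=
    haveI : FiniteDimensional F V := e.finiteDimensional_of_finite
    det_tvec ρ v

/-- any vanishing entry of the block -/
theorem zero_any (hy : y ∈ M) (hn : ¬ Mono e y) (hij : i ≠ j) (hit : i ≠ t) (hjt : j ≠ t) (hyt : y (e t) = γ • e t)
    (hz : e.repr (y (e i)) i = 0 ∨ e.repr (y (e j)) j = 0 ∨ e.repr (y (e i)) j = 0 ∨ e.repr (y (e j)) i = 0) :
    HasRoot M := by
  rcases hz with h0 | h0 | h0 | h0
  rotate_left 2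
  · exact off_zero h hy hn hij hit hjt hyt (Or.inl h0)
  · exact off_zero h hy hn hij hit hjt hyt (Or.inr h0)
  all_goals
    obtain ⟨c, hc⟩ := exists_det_one (e := e) (Equiv.swap i j)
    set S := monE e (Equiv.swap i j) c with hS
    have hSM : S ∈ M := h.stab _ (mono_monE _ _) hc
    have hn' : ¬ Mono e (S * y) := fun hm => hn (by
      have := (mono_monE (e := e) (Equiv.swap i j) c).inv.mul hm
      rwa [← hS, inv_mul_cancel_left] at this)
    have hSt : (S * y) (e t) = (γ * c t) • e t := by
      rw [LinearEquiv.mul_apply, hyt, map_smul, hS, monE_basis, Equiv.swap_apply_of_ne_of_ne hit.symm hjt.symm, smul_smul]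
    refine off_zero h (mul_mem hSM hy) hn' hij hit hjt hSt ?_
  · left
    rw [LinearEquiv.mul_apply, hS]
    have := repr_monE (e := e) (Equiv.swap i j) c (y (e i)) i
    rw [Equiv.swap_apply_left, h0, mul_zero] at this
    exact this
  · right
    rw [LinearEquiv.mul_apply, hS]
    have := repr_monE (e := e) (Equiv.swap i j) c (y (e j)) j
    rw [Equiv.swap_apply_right, h0, mul_zero] at this
    exact this

omit h in
theorem vec_repr (hij : i ≠ j) (hit : i ≠ t) (hjt : j ≠ t) (a b c : F) :
    e.repr (a • e i + b • e j + c • e t) i = a ∧ e.repr (a • e i + b • e j + c • e t) j = b ∧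
      e.repr (a • e i + b • e j + c • e t) t = c := by
  simp [hij, hij.symm, hit, hit.symm, hjt, hjt.symm]

/-- block entries with non-vanishing permanent -/
theorem perm_ne (hy : y ∈ M) (hij : i ≠ j) (hit : i ≠ t) (hjt : j ≠ t) (hyt : y (e t) = γ • e t)
    (ha : e.repr (y (e i)) i ≠ 0) (hc : e.repr (y (e i)) j ≠ 0) (hd : e.repr (y (e j)) j ≠ 0)
    (hperm : e.repr (y (e i)) i * e.repr (y (e j)) j + e.repr (y (e j)) i * e.repr (y (e i)) j ≠ 0) : HasRoot M := by
  have hvi := decomp_three (e := e) hij hit hjt (y (e i))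
  have hvj := decomp_three (e := e) hij hit hjt (y (e j))
  have hdet : e.repr (y (e i)) i * e.repr (y (e j)) j - e.repr (y (e j)) i * e.repr (y (e i)) j ≠ 0 := fun h0 => by
    refine col_ne (i := i) (j := j) hij hit hjt hyt ?_ ?_ |>.elim
    all_goals
      exfalso
      -- the two block columns would be proportional
      have hγ := gamma_ne hyt
      have e1 : y (e.repr (y (e j)) j • e i - e.repr (y (e i)) j • e j) =
          (e.repr (y (e j)) j * e.repr (y (e i)) t - e.repr (y (e i)) j * e.repr (y (e j)) t) • e t := by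
        rw [map_sub, map_smul, map_smul]
        conv_lhs => rw [hvi, hvj]
        simp [hij, hij.symm, hit, hit.symm, hjt, hjt.symm]
        match_scalars <;> first | ring1 | linear_combination -h0 | linear_combination h0
      have e2 : e.repr (y (e j)) j • e i - e.repr (y (e i)) j • e j =
          ((e.repr (y (e j)) j * e.repr (y (e i)) t - e.repr (y (e i)) j * e.repr (y (e j)) t) / γ) • e t := by
        apply y.injective
        rw [e1, map_smul, hyt, smul_smul, div_mul_cancel₀ _ hγ]
      have := congrArg (fun v => e.repr v i) e2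
      simp [hij.symm, hit.symm] at this
      exact hd this
  set a := e.repr (y (e i)) i
  set c := e.repr (y (e i)) j
  set b := e.repr (y (e j)) i
  set d := e.repr (y (e j)) j
  set k2 : Fˣ := Units.mk0 (-(c * c) / (a * d)) (div_ne_zero (neg_ne_zero.2 (mul_ne_zero hc hc)) (mul_ne_zero ha hd))
  set K := monE e (Equiv.swap i j) (three i j k2 1 (-k2⁻¹)) with hK
  have hKM : K ∈ M := h.stab _ (mono_monE _ _) (by
    rw [det_monE, prod_three hij hit hjt, three_i, three_j hij, three_t hit hjt, Equiv.Perm.sign_swap hij]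
    simp)
  have hKi : K (e i) = (k2 : F) • e j := by rw [hK, monE_basis, Equiv.swap_apply_left, three_i]
  have hKj : K (e j) = e i := by rw [hK, monE_basis, Equiv.swap_apply_right, three_j hij, Units.val_one, one_smul]
  have hKt : K (e t) = (-(k2 : F)⁻¹) • e t := by
    rw [hK, monE_basis, Equiv.swap_apply_of_ne_of_ne hit.symm hjt.symm, three_t hit hjt, Units.val_neg,
      Units.val_inv_eq_inv_val]
  have hzt : (y * K * y) (e t) = (γ * (-(k2 : F)⁻¹) * γ) • e t := by
    rw [LinearEquiv.mul_apply, LinearEquiv.mul_apply, hyt, map_smul, hKt, smul_smul, map_smul, hyt, smul_smul]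
  have himg : ∀ v, (y * K * y) v = (e.repr (y v) i * k2) • y (e j) + e.repr (y v) j • y (e i) +
      (e.repr (y v) t * (-(k2 : F)⁻¹)) • y (e t) := fun v => by
    rw [LinearEquiv.mul_apply, LinearEquiv.mul_apply]
    conv_lhs => arg 2; arg 2; rw [decomp_three (e := e) hij hit hjt (y v)]
    simp [map_add, map_smul, hKi, hKj, hKt, smul_smul]
  have hk2 : (k2 : F) * (a * d) = -(c * c) := div_mul_cancel₀ _ (mul_ne_zero ha hd)
  refine root_of_tri h (mul_mem (mul_mem hy hKM) hy) hij hit hjt hzt ?_ fun h0 => ?_
  · rw [himg]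
    simp [hyt, hjt.symm]
    linear_combination hk2
  · rw [himg] at h0
    simp [hyt, hit.symm] at h0
    refine mul_ne_zero hperm hdet ?_
    linear_combination (a * d) * h0 - (b * b) * hk2

/-- a non-zero component along the fixed line -/
theorem offline (hy : y ∈ M) (hij : i ≠ j) (hit : i ≠ t) (hjt : j ≠ t) (hyt : y (e t) = γ • e t)
    (hw : e.repr (y (e i)) t ≠ 0) : HasRoot M := by
  obtain ⟨β, hβ⟩ := exists_b h
  have hγ := gamma_ne hyt
  set D := monE e 1 (three i j β β (β ^ 2)⁻¹) with hD
  have hDM : D ∈ M := diag_mem h hij hit hjt (by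
    rw [three_i, three_j hij, three_t hit hjt]
    group)
  set z := y⁻¹ * D * y * D⁻¹ with hz
  have hzM : z ∈ M := mul_mem (mul_mem (mul_mem (inv_mem hy) hDM) hy) (inv_mem hDM)
  have hyt' : y⁻¹ (e t) = γ⁻¹ • e t := by
    apply y.injective
    rw [apply_inv, map_smul, hyt, smul_smul, inv_mul_cancel₀ hγ, one_smul]
  have hDall : ∀ v, D v = (β : F) • v + ((((β : F) ^ 2)⁻¹ - β) * e.repr v t) • e t := fun v => by
    conv_lhs => rw [decomp_three (e := e) hij hit hjt v]
    conv_rhs => arg 1; rw [decomp_three (e := e) hij hit hjt v]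
    simp only [map_add, map_smul, hD, diag_apply, three_i, three_j hij, three_t hit hjt, Units.val_inv_eq_inv_val,
      Units.val_pow_eq_pow_val]
    module
  set μ := ((β : F) ^ 3)⁻¹ - 1 with hμ
  set ρ : Dual F V := (μ * e.repr (y (e i)) t / γ) • e.coord i + (μ * e.repr (y (e j)) t / γ) • e.coord j with hρ
  have hρt : ρ (e t) = 0 := by simp [hρ, hit, hjt]
  have hblock : ∀ k, k ≠ t → z (e k) = e k + (μ * e.repr (y (e k)) t / γ) • e t := fun k hk => by
    have hDk : D⁻¹ (e k) = (β : F)⁻¹ • e k := by
      rcases cases_three hij hit hjt k with rfl | rfl | rfl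
      · rw [hD, diag_inv_apply, three_i]
      · rw [hD, diag_inv_apply, three_j hij]
      · exact absurd rfl hk
    simp only [hz, LinearEquiv.mul_apply, hDk, map_smul, hDall, map_add, inv_apply, hyt']
    have := β.ne_zero
    rw [hμ]
    match_scalars <;> field_simp <;> ring
  have hzt : z (e t) = e t := by
    have hDt : D⁻¹ (e t) = ((β : F) ^ 2) • e t := by
      rw [hD, diag_inv_apply, three_t hit hjt, Units.val_inv_eq_inv_val, inv_inv, Units.val_pow_eq_pow_val]
    simp only [hz, LinearEquiv.mul_apply, hDt, map_smul, hyt, map_add, hDall, hyt', Basis.repr_self, Finsupp.smul_apply,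
      Finsupp.single_eq_same, smul_eq_mul, mul_one]
    have := β.ne_zero
    match_scalars
    field_simp
    ring
  have hzT : z = tvec ρ (e t) := LinearEquiv.toLinearMap_injective (e.ext fun k => by
    rw [LinearEquiv.coe_coe, LinearEquiv.coe_coe, tvec_apply hρt]
    rcases cases_three hij hit hjt k with rfl | rfl | rfl
    · rw [hblock _ hit]; simp [hρ, hij]
    · rw [hblock _ hjt]; simp [hρ, hij.symm]
    · rw [hzt, hρt, zero_smul, add_zero])
  refine root_of_centre h hρt (fun h0 => ?_) (hzT ▸ hzM)
  have h1 := LinearMap.congr_fun h0 (e i)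
  simp [hρ, hij, hγ, hw, hμ] at h1
  exact hβ (sub_eq_zero.1 h1 |> fun h2 => by simpa using h2)

omit h in
/-- a vector with integral coordinates -/
noncomputable def ivec (e : Basis (Fin 3) F V) (a b c : ℤ) : V := (a : F) • e 0 + (b : F) • e 1 + (c : F) • e 2

/-- the exceptional block over the field with five elements -/
theorem five_block (h5 : Fintype.card F = 5) {Y : V ≃ₗ[F] V} (hY : Y ∈ M) (h0 : Y (e 0) = e 0 + e 1)
    (h1 : Y (e 1) = e 0 - e 1) (h2 : Y (e 2) = (2 : F) • e 2) : HasRoot M := by
  haveI : CharP F 5 := by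
    obtain ⟨p, hp⟩ := CharP.exists F
    obtain ⟨n, hpp, hn⟩ := FiniteField.card F p
    rw [h5] at hn
    have h1 : p ∣ 5 := hn ▸ dvd_pow_self p n.ne_zero
    have h2 : p = 5 := (Nat.prime_dvd_prime_iff_eq hpp Nat.prime_five).1 h1
    exact h2 ▸ hp
  have hu4 : ((4 : ℤ) : F) ≠ 0 := fun h' => by
    have := (CharP.intCast_eq_zero_iff F 5 4).1 h'
    omega
  have hu3 : ((3 : ℤ) : F) ≠ 0 := fun h' => by
    have := (CharP.intCast_eq_zero_iff F 5 3).1 h'
    omega
  have h01 : (0 : Fin 3) ≠ 1 := by decide
  have h02 : (0 : Fin 3) ≠ 2 := by decide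
  have h12 : (1 : Fin 3) ≠ 2 := by decide
  set B := monE e (Equiv.swap 1 2) (three 1 2 1 (Units.mk0 _ hu4) 1) with hB
  set C := monE e (Equiv.swap 1 2) (three 1 2 (Units.mk0 _ hu3) (Units.mk0 _ hu3) 1) with hC
  have hBM : B ∈ M := h.stab _ (mono_monE _ _) (by
    rw [det_monE, prod_three h12 h01.symm h02.symm, three_i, three_j h12, three_t h01.symm h02.symm,
      Equiv.Perm.sign_swap h12]
    have : ((-1 : ℤ) * 4 : ℤ) - 1 = -5 := by norm_num
    have h5' := (CharP.intCast_eq_zero_iff F 5 (-5)).2 ⟨-1, by norm_num⟩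
    push_cast at h5' ⊢
    simp
    linear_combination h5')
  have hCM : C ∈ M := h.stab _ (mono_monE _ _) (by
    rw [det_monE, prod_three h12 h01.symm h02.symm, three_i, three_j h12, three_t h01.symm h02.symm,
      Equiv.Perm.sign_swap h12]
    have h5' := (CharP.intCast_eq_zero_iff F 5 (-10)).2 ⟨-2, by norm_num⟩
    push_cast at h5' ⊢
    simp
    linear_combination h5')
  have hYv : ∀ a b c : ℤ, Y (ivec e a b c) = ivec e (a + b) (a - b) (2 * c) := fun a b c => by
    simp only [ivec, map_add, map_smul, h0, h1, h2]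
    push_cast
    module
  have hBv : ∀ a b c : ℤ, B (ivec e a b c) = ivec e a (4 * c) b := fun a b c => by
    simp only [ivec, map_add, map_smul, hB, monE_basis, Equiv.swap_apply_of_ne_of_ne h01 h02, Equiv.swap_apply_left,
      Equiv.swap_apply_right, three_i, three_j h12, three_t h01.symm h02.symm, Units.val_one, Units.val_mk0]
    push_cast
    module
  have hCv : ∀ a b c : ℤ, C (ivec e a b c) = ivec e a (3 * c) (3 * b) := fun a b c => by
    simp only [ivec, map_add, map_smul, hC, monE_basis, Equiv.swap_apply_of_ne_of_ne h01 h02, Equiv.swap_apply_left,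
      Equiv.swap_apply_right, three_i, three_j h12, three_t h01.symm h02.symm, Units.val_one, Units.val_mk0]
    push_cast
    module
  set z := Y * B * Y * B * Y * C * Y with hz
  have hzM : z ∈ M := by repeat' first | exact hY | exact hBM | exact hCM | apply mul_mem
  have hv : ∀ a b c : ℤ, z (ivec e a b c) = Y (B (Y (B (Y (C (Y (ivec e a b c))))))) := fun a b c => rfl
  have hmod : ∀ a b c a' b' c' : ℤ, (a - a') % 5 = 0 → (b - b') % 5 = 0 → (c - c') % 5 = 0 →
      ivec e a b c = ivec e a' b' c' := fun a b c a' b' c' ha hb hc => by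
    have key : ∀ x y : ℤ, (x - y) % 5 = 0 → (x : F) = (y : F) := fun x y hxy => sub_eq_zero.1 (by
      rw [← Int.cast_sub]
      exact (CharP.intCast_eq_zero_iff F 5 _).2 (Int.dvd_of_emod_eq_zero hxy))
    rw [ivec, ivec, key a a' ha, key b b' hb, key c c' hc]
  have e1 : z (e 1) = ((4 : ℤ) : F) • e 1 := by
    have := hv 0 1 0
    simp only [hYv, hBv, hCv] at this
    rw [show e 1 = ivec e 0 1 0 by simp [ivec]]
    rw [this, show ((4 : ℤ) : F) • ivec e 0 1 0 = ivec e 0 4 0 by simp [ivec]]
    exact hmod _ _ _ _ _ _ (by norm_num) (by norm_num) (by norm_num)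
  have e0 : z (e 0) = ivec e 3 2 4 := by
    have := hv 1 0 0
    simp only [hYv, hBv, hCv] at this
    rw [show e 0 = ivec e 1 0 0 by simp [ivec], this]
    exact hmod _ _ _ _ _ _ (by norm_num) (by norm_num) (by norm_num)
  refine offline h hzM (i := 0) (j := 2) (t := 1) h02 h01 h12.symm e1 ?_
  rw [e0]
  simp only [ivec]
  rw [(vec_repr (e := e) h01 h02 h12 _ _ _).2.1]
  intro h'
  have := (CharP.intCast_eq_zero_iff F 5 2).1 h'
  omega

omit h in
theorem stab_reindex (hS : Stab e M) (σ : Fin 3 ≃ Fin 3) : Stab (e.reindex σ) M := by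
  refine ⟨fun g hg hd => hS.stab g (fun k => ?_) hd, hS.det, hS.five⟩
  obtain ⟨l, c, hlc⟩ := hg (σ k)
  refine ⟨σ.symm l, c, ?_⟩
  rwa [Basis.reindex_apply, Basis.reindex_apply, Equiv.symm_apply_apply] at hlc

/-- a non-monomial element fixing a coordinate line gives a root group -/
theorem fixed_line (hy : y ∈ M) (hn : ¬ Mono e y) (hyt : y (e t) = γ • e t) : HasRoot M := by
  obtain ⟨i, j, hij, hit, hjt⟩ : ∃ i j : Fin 3, i ≠ j ∧ i ≠ t ∧ j ≠ t := by clear hyt; revert t; decide
  set a := e.repr (y (e i)) i with ha'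
  set c := e.repr (y (e i)) j with hc'
  set b := e.repr (y (e j)) i with hb'
  set d := e.repr (y (e j)) j with hd'
  by_cases hz : a = 0 ∨ d = 0 ∨ c = 0 ∨ b = 0
  · exact zero_any h hy hn hij hit hjt hyt hz
  push Not at hz
  obtain ⟨ha, hd, hc, hb⟩ := hz
  by_cases hperm : a * d + b * c = 0
  swap
  · exact perm_ne h hy hij hit hjt hyt ha hc hd hperm
  by_cases hwi : e.repr (y (e i)) t = 0
  swap
  · exact offline h hy hij hit hjt hyt hwi
  by_cases hwj : e.repr (y (e j)) t = 0
  swap
  · exact offline h hy hij.symm hjt hit hyt hwj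
  have hvi : y (e i) = a • e i + c • e j := by
    conv_lhs => rw [decomp_three (e := e) hij hit hjt (y (e i)), hwi, zero_smul, add_zero]
  have hvj : y (e j) = b • e i + d • e j := by
    conv_lhs => rw [decomp_three (e := e) hij hit hjt (y (e j)), hwj, zero_smul, add_zero]
  have h2 : (2 : F) ≠ 0 := fun h2 => by
    refine absurd ?_ (mul_ne_zero hd (Units.ne_zero (Units.mk0 a ha)))
    show d * a = 0
    -- the two block columns would be proportional
    have e1 : y (d • e i - c • e j) = 0 := by
      rw [map_sub, map_smul, map_smul, hvi, hvj]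
      match_scalars
      · linear_combination hperm - b * c * h2
      · ring
    have := congrArg (fun v => e.repr v i) (y.map_eq_zero_iff.1 e1)
    simp [hij.symm] at this
    exact absurd this hd
  by_cases h7 : 7 ≤ Fintype.card F
  · obtain ⟨T, hT⟩ : ∃ T : F, T * (T ^ 2 - 1) * (T ^ 2 + 1) ≠ 0 := by
      by_contra! hall
      set P : Polynomial F := Polynomial.X * (Polynomial.X ^ 2 - 1) * (Polynomial.X ^ 2 + 1) with hP
      have hdeg : P.natDegree = 5 := by rw [hP]; compute_degree!
      have hP0 : P ≠ 0 := fun h0 => by rw [h0, Polynomial.natDegree_zero] at hdeg; omega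
      have := Polynomial.card_le_degree_of_subset_roots (p := P) (Z := Finset.univ) fun x _ => by
        rw [Polynomial.mem_roots hP0, Polynomial.IsRoot, hP]
        simpa using hall x
      rw [Finset.card_univ, hdeg] at this
      omega
    simp only [mul_ne_zero_iff] at hT
    obtain ⟨⟨hT0, hT1⟩, hT2⟩ := hT
    set τ : Fˣ := Units.mk0 (T * d / a) (div_ne_zero (mul_ne_zero hT0 hd) ha)
    set D := monE e 1 (three i j τ 1 τ⁻¹) with hD
    have hDM : D ∈ M := diag_mem h hij hit hjt (by rw [three_i, three_j hij, three_t hit hjt, mul_one, mul_inv_cancel])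
    have hτ : (τ : F) * a = T * d := div_mul_cancel₀ _ ha
    have hDi : D (e i) = (τ : F) • e i := by rw [hD, diag_apply, three_i]
    have hDj : D (e j) = e j := by rw [hD, diag_apply, three_j hij, Units.val_one, one_smul]
    have hzt : (y * D * y) (e t) = (γ * ((τ⁻¹ : Fˣ) : F) * γ) • e t := by
      rw [LinearEquiv.mul_apply, LinearEquiv.mul_apply, hyt, map_smul, hD, diag_apply, three_t hit hjt, smul_smul,
        map_smul, hyt, smul_smul]
    have hzi : (y * D * y) (e i) = (a * τ * a + c * b) • e i + (a * τ * c + c * d) • e j := by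
      rw [LinearEquiv.mul_apply, LinearEquiv.mul_apply, hvi]
      simp only [map_add, map_smul, hDi, hDj, hvi, hvj]
      module
    have hzj : (y * D * y) (e j) = (b * τ * a + d * b) • e i + (b * τ * c + d * d) • e j := by
      rw [LinearEquiv.mul_apply, LinearEquiv.mul_apply, hvj]
      simp only [map_add, map_smul, hDi, hDj, hvi, hvj]
      module
    have f1 : e.repr ((y * D * y) (e i)) i = a * d * (T - 1) := by
      rw [hzi]; simp [hij, hij.symm]; linear_combination a * hτ + hperm
    have f2 : e.repr ((y * D * y) (e i)) j = c * d * (T + 1) := by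
      rw [hzi]; simp [hij, hij.symm]; linear_combination c * hτ
    have f3 : e.repr ((y * D * y) (e j)) j = d * d * (1 - T) := by
      rw [hzj]; simp [hij, hij.symm]
      refine mul_left_cancel₀ ha ?_
      linear_combination b * c * hτ + T * d * hperm
    have f4 : e.repr ((y * D * y) (e j)) i = b * d * (T + 1) := by
      rw [hzj]; simp [hij, hij.symm]; linear_combination b * hτ
    have hTm : T - 1 ≠ 0 := fun e' => hT1 (by linear_combination (T + 1) * e')
    have hTp : T + 1 ≠ 0 := fun e' => hT1 (by linear_combination (T - 1) * e')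
    refine perm_ne h (mul_mem (mul_mem hy hDM) hy) hij hit hjt hzt (by rw [f1]; simp [ha, hd, hTm])
      (by rw [f2]; simp [hc, hd, hTp]) (by rw [f3]; simp [hd, sub_ne_zero.2 (sub_ne_zero.1 hTm).symm]) ?_
    rw [f1, f2, f3, f4]
    rw [show a * d * (T - 1) * (d * d * (1 - T)) + b * d * (T + 1) * (c * d * (T + 1)) =
      -(2 * (a * d * (d * d)) * (T ^ 2 + 1)) by linear_combination (d * d * (T + 1) * (T + 1)) * hperm]
    simp [h2, ha, hd, hT2]
  · have h5 : Fintype.card F = 5 := by
      have := h.five
      obtain ⟨p, hp⟩ := CharP.exists F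
      obtain ⟨n, hpp, hn⟩ := FiniteField.card F p
      by_contra hne
      have h6 : Fintype.card F = 6 := by omega
      rw [h6] at hn
      have hpd : p ∣ 6 := hn ▸ dvd_pow_self p n.ne_zero
      have := Nat.le_of_dvd (by norm_num) hpd
      interval_cases p
      · exact absurd hpp (by decide)
      · exact absurd hpp (by decide)
      · have : 3 ∣ 2 ^ (n : ℕ) := hn ▸ (by norm_num)
        exact absurd (Nat.prime_three.dvd_of_dvd_pow this) (by norm_num)
      · have : 2 ∣ 3 ^ (n : ℕ) := hn ▸ (by norm_num)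
        exact absurd (Nat.prime_two.dvd_of_dvd_pow this) (by norm_num)
      all_goals first | exact absurd hpp (by decide) | omega
    set D2 := monE e 1 (three i j (Units.mk0 a ha)⁻¹ (Units.mk0 b hb)⁻¹ (Units.mk0 a ha * Units.mk0 b hb)) with hD2
    set D1 := monE e 1 (three i j 1 (Units.mk0 a ha * (Units.mk0 c hc)⁻¹) (Units.mk0 c hc * (Units.mk0 a ha)⁻¹)) with hD1
    have hM1 : D1 ∈ M := diag_mem h hij hit hjt (by rw [three_i, three_j hij, three_t hit hjt]; group)
    have hM2 : D2 ∈ M := diag_mem h hij hit hjt (by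
      rw [three_i, three_j hij, three_t hit hjt, ← mul_inv, inv_mul_cancel])
    set Y := D1 * y * D2 with hY
    have hYi : Y (e i) = e i + e j := by
      simp only [hY, LinearEquiv.mul_apply, hD2, diag_apply, three_i, map_smul, hvi, map_add, hD1, three_j hij,
        Units.val_one, Units.val_mul, Units.val_inv_eq_inv_val, Units.val_mk0]
      match_scalars <;> field_simp
    have hYj : Y (e j) = e i - e j := by
      simp only [hY, LinearEquiv.mul_apply, hD2, diag_apply, three_j hij, map_smul, hvj, map_add, hD1, three_i,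
        Units.val_one, Units.val_mul, Units.val_inv_eq_inv_val, Units.val_mk0]
      match_scalars <;> field_simp
      linear_combination hperm
    obtain ⟨g, hg⟩ : ∃ g : F, Y (e t) = g • e t := ⟨_, by
      simp only [hY, LinearEquiv.mul_apply, hD2, diag_apply, map_smul, hyt, hD1, smul_smul]
      rfl⟩
    obtain ⟨σ, hσi, hσj, hσt⟩ : ∃ σ : Equiv.Perm (Fin 3), σ i = 0 ∧ σ j = 1 ∧ σ t = 2 := by
      clear * - hij hit hjt
      revert hij hit hjt; revert i j t; decide
    set e' := e.reindex σ with he'
    have he0 : e' 0 = e i := by rw [he', Basis.reindex_apply, ← hσi, Equiv.symm_apply_apply]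
    have he1 : e' 1 = e j := by rw [he', Basis.reindex_apply, ← hσj, Equiv.symm_apply_apply]
    have he2 : e' 2 = e t := by rw [he', Basis.reindex_apply, ← hσt, Equiv.symm_apply_apply]
    have hYM : Y ∈ M := mul_mem (mul_mem hM1 hy) hM2
    refine five_block (stab_reindex h σ) h5 hYM (by rw [← he', he0, hYi, he1]) (by rw [← he', he0, he1, hYj]) ?_
    have hdet := h.det Y hYM
    rw [← LinearMap.det_toMatrix e', Matrix.det_fin_three] at hdet
    simp [LinearMap.toMatrix_apply, he0, he1, he2, hYi, hYj, hg] at hdet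
    rw [← he', he2, hg]
    congr 1
    simp [← he0, ← he1, ← he2] at hdet
    have h5' : (5 : F) = 0 := by
      have := Nat.cast_card_eq_zero F
      rwa [h5] at this
    linear_combination (-3 : F) * hdet + (-g - 1) * h5'

end Cfsg.Agent.ClassicalMax.SL3
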