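import Mathlib

/-!
Three by three matrices over a commutative ring by their nine entries, and the checks over the field with seven
elements used for the monomial subgroups.
-/

set_option autoImplicit false

namespace Cfsg.Agent.ClassicalMax.SL3.Seven

/-- nine entries, row by row -/
structure Tab (R : Type*) where
  a : R
  b : R
  c : R
  d : R
  e : R
  f : R
  g : R
  h : R
  i : R

variable {R : Type*} [CommRing R]

/-- the product -/
def Tab.mul (x y : Tab R) : Tab R :=
  ⟨x.a * y.a + x.b * y.d + x.c * y.g, x.a * y.b + x.b * y.e + x.c * y.h, x.a * y.c + x.b * y.f + x.c * y.i,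
   x.d * y.a + x.e * y.d + x.f * y.g, x.d * y.b + x.e * y.e + x.f * y.h, x.d * y.c + x.e * y.f + x.f * y.i,
   x.g * y.a + x.h * y.d + x.i * y.g, x.g * y.b + x.h * y.e + x.i * y.h, x.g * y.c + x.h * y.f + x.i * y.i⟩

/-- the adjugate -/
def Tab.adj (x : Tab R) : Tab R :=
  ⟨x.e * x.i - x.f * x.h, x.c * x.h - x.b * x.i, x.b * x.f - x.c * x.e,
   x.f * x.g - x.d * x.i, x.a * x.i - x.c * x.g, x.c * x.d - x.a * x.f,
   x.d * x.h - x.e * x.g, x.b * x.g - x.a * x.h, x.a * x.e - x.b * x.d⟩

/-- the determinant -/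
def Tab.det (x : Tab R) : R :=
  x.a * (x.e * x.i - x.f * x.h) + x.b * (x.f * x.g - x.d * x.i) + x.c * (x.d * x.h - x.e * x.g)

/-- the entry -/
def Tab.get (x : Tab R) : Fin 3 → Fin 3 → R
  | 0, 0 => x.a | 0, 1 => x.b | 0, 2 => x.c
  | 1, 0 => x.d | 1, 1 => x.e | 1, 2 => x.f
  | 2, 0 => x.g | 2, 1 => x.h | 2, 2 => x.i

/-- the table of a function -/
def Tab.of (f : Fin 3 → Fin 3 → R) : Tab R :=
  ⟨f 0 0, f 0 1, f 0 2, f 1 0, f 1 1, f 1 2, f 2 0, f 2 1, f 2 2⟩

variable [DecidableEq R]

/-- a column with one non-zero entry -/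
def one₃ (x y z : R) : Bool :=
  (x != 0 && y == 0 && z == 0) || (x == 0 && y != 0 && z == 0) || (x == 0 && y == 0 && z != 0)

/-- a column with two non-zero entries -/
def two₃ (x y z : R) : Bool := (x != 0 && y != 0) || (x != 0 && z != 0) || (y != 0 && z != 0)

/-- not monomial and some column is a multiple of a coordinate vector -/
def Tab.bad0 (x : Tab R) : Bool :=
  (one₃ x.a x.d x.g || one₃ x.b x.e x.h || one₃ x.c x.f x.i) &&
    (two₃ x.a x.d x.g || two₃ x.b x.e x.h || two₃ x.c x.f x.i)

/-- not monomial and some entry vanishes -/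
def Tab.bad1 (x : Tab R) : Bool :=
  (x.a == 0 || x.b == 0 || x.c == 0 || x.d == 0 || x.e == 0 || x.f == 0 || x.g == 0 || x.h == 0 || x.i == 0) &&
    (two₃ x.a x.d x.g || two₃ x.b x.e x.h || two₃ x.c x.f x.i)

/-- units -/
def unitsList : List (ZMod 7) := [1, 2, 3, 4, 5, 6]

/-- elements -/
def allList : List (ZMod 7) := [0, 1, 2, 3, 4, 5, 6]

/-- monomial tables of determinant one of three shapes -/
def monList : List (Fin 3 × ZMod 7 × ZMod 7) :=
  [0, 1, 2].flatMap fun k => unitsList.flatMap fun u => unitsList.map fun v => (k, u, v)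

/-- the table of an entry of `monList` -/
def monTab : Fin 3 × ZMod 7 × ZMod 7 → Tab (ZMod 7)
  | (0, u, v) => ⟨u, 0, 0, 0, v, 0, 0, 0, (u * v) ^ 5⟩
  | (1, u, v) => ⟨u, 0, 0, 0, 0, -((u * v) ^ 5), 0, v, 0⟩
  | (2, u, v) => ⟨0, v, 0, u, 0, 0, 0, 0, -((u * v) ^ 5)⟩

/-- last rows -/
def rowList : List (ZMod 7 × ZMod 7) := allList.map (fun f => (1, f)) ++ [(0, 1)]

/-- the check for tables with a vanishing entry -/
def check0 (x1 y1 : ZMod 7) : Bool :=
  allList.all fun a => allList.all fun b => rowList.all fun r =>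
    let x : Tab (ZMod 7) := ⟨1, x1, y1, 1, a, b, 0, r.1, r.2⟩
    x.det == 0 || x.bad0 || x.adj.bad0 || monList.any fun m => ((x.mul (monTab m)).mul x.adj).bad0

/-- the first exceptional table -/
def exA : Tab (ZMod 7) := ⟨1, 1, 1, 1, 2, 4, 1, 4, 2⟩

/-- the second exceptional table -/
def exB : Tab (ZMod 7) := ⟨1, 1, 1, 1, 4, 2, 1, 2, 4⟩

/-- diagonal tables -/
def diagList : List (ZMod 7 × ZMod 7) := unitsList.flatMap fun u => unitsList.map fun v => (u, v)

/-- the check for tables without vanishing entries -/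
def check1 : Bool :=
  unitsList.all fun a => unitsList.all fun b => unitsList.all fun c => unitsList.all fun d =>
    let x : Tab (ZMod 7) := ⟨1, 1, 1, 1, a, b, 1, c, d⟩
    x.det == 0 || x.adj.bad1 || (diagList.any fun m => ((x.mul (monTab (0, m.1, m.2))).mul x.adj).bad1) ||
      (a == 2 && b == 4 && c == 4 && d == 2) || (a == 4 && b == 2 && c == 2 && d == 4)

/-- the scaled exceptional table -/
def scaledEx (x : Tab (ZMod 7)) (a : ZMod 7) : Tab (ZMod 7) :=
  (((⟨a, 0, 0, 0, 1, 0, 0, 0, 1⟩ : Tab (ZMod 7)).mul x).mul ⟨(a * x.det) ^ 5, 0, 0, 0, 1, 0, 0, 0, 1⟩)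

/-- the words in the scaled exceptional tables -/
def check2 : Bool :=
  unitsList.all fun a =>
    let y := scaledEx exA a
    let z := scaledEx exB a
    let d := monTab (0, 1, 3)
    ((((y.mul y).mul y).mul y)).bad1 && ((((((z.mul d).mul z).mul d).mul z).mul d).mul z).bad1

set_option maxRecDepth 100000 in
theorem check0_00 : check0 0 0 = true := by decide +kernel

set_option maxRecDepth 100000 in
theorem check0_01 : check0 0 1 = true := by decide +kernel

set_option maxRecDepth 100000 in
theorem check0_10 : check0 1 0 = true := by decide +kernel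

set_option maxRecDepth 100000 in
theorem check0_11 : check0 1 1 = true := by decide +kernel

set_option maxRecDepth 100000 in
theorem check1_true : check1 = true := by decide +kernel

set_option maxRecDepth 100000 in
theorem check2_true : check2 = true := by decide +kernel

end Cfsg.Agent.ClassicalMax.SL3.Seven
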