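import Cfsg.Agent.ClassicalMax.SL3.MonoSplit
import Cfsg.Agent.ClassicalMax.SL3.SevenData

/-!
Overgroups of the monomial group in dimension three over the field with seven elements.
-/

set_option autoImplicit false
set_option linter.unusedSectionVars false

namespace Cfsg.Agent.ClassicalMax.SL3

open Module Cfsg.Agent.Classical.Decomp Seven

variable {F V : Type*} [Field F] [Fintype F] [AddCommGroup V] [Module F V]
  {e : Basis (Fin 3) F V} {M : Subgroup (V ≃ₗ[F] V)}

/-- an entry -/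
noncomputable def ent3 (e : Basis (Fin 3) F V) (y : V ≃ₗ[F] V) (r s : Fin 3) : F := e.repr (y (e s)) r

theorem ent3_mul (y z : V ≃ₗ[F] V) (r s : Fin 3) : ent3 e (y * z) r s = ∑ t, ent3 e y r t * ent3 e z t s := by
  show e.repr (y (z (e s))) r = _
  conv_lhs => rw [← e.sum_repr (z (e s))]
  rw [map_sum, map_sum, Finsupp.coe_finset_sum, Finset.sum_apply]
  exact Finset.sum_congr rfl fun t _ => by simp [ent3, mul_comm]

theorem ent3_monE_left (σ : Equiv.Perm (Fin 3)) (c : Fin 3 → Fˣ) (z : V ≃ₗ[F] V) (r s : Fin 3) :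
    ent3 e (monE e σ c * z) (σ r) s = c r * ent3 e z r s := by
  show e.repr (monE e σ c (z (e s))) (σ r) = _
  rw [repr_monE]; rfl

theorem ent3_monE_right (σ : Equiv.Perm (Fin 3)) (c : Fin 3 → Fˣ) (z : V ≃ₗ[F] V) (r s : Fin 3) :
    ent3 e (z * monE e σ c) r s = ent3 e z r (σ s) * c s := by
  show e.repr (z (monE e σ c (e s))) r = _
  rw [monE_basis, map_smul, map_smul, Finsupp.smul_apply, smul_eq_mul, mul_comm]; rfl

theorem ent3_diag_left (c : Fin 3 → Fˣ) (z : V ≃ₗ[F] V) (r s : Fin 3) :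
    ent3 e (monE e 1 c * z) r s = c r * ent3 e z r s := ent3_monE_left 1 c z r s

theorem ent3_diag_right (c : Fin 3 → Fˣ) (z : V ≃ₗ[F] V) (r s : Fin 3) :
    ent3 e (z * monE e 1 c) r s = ent3 e z r s * c s := ent3_monE_right 1 c z r s

theorem not_mono_of_two {y : V ≃ₗ[F] V} {r r' s : Fin 3} (hne : r ≠ r') (h1 : ent3 e y r s ≠ 0) (h2 : ent3 e y r' s ≠ 0) :
    ¬ Mono e y := fun hm => by
  obtain ⟨p, c, hpc⟩ := hm s
  simp only [ent3, hpc, map_smul, Basis.repr_self, Finsupp.smul_apply, Finsupp.single_apply] at h1 h2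
  by_cases hp : p = r
  · subst hp; rw [if_neg hne, smul_zero] at h2; exact h2 rfl
  · rw [if_neg hp, smul_zero] at h1; exact h1 rfl

theorem det_ent3 (y : V ≃ₗ[F] V) :
    LinearMap.det y.toLinearMap = (Tab.of fun r s => ent3 e y r s).det := by
  rw [← LinearMap.det_toMatrix e, Matrix.det_fin_three]
  simp [LinearMap.toMatrix_apply, ent3, Tab.of, Tab.det]
  ring

theorem row_ne (y : V ≃ₗ[F] V) (r : Fin 3) : ∃ s, ent3 e y r s ≠ 0 := by
  by_contra! hc
  have h1 := ent3_mul (e := e) y y⁻¹ r r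
  rw [mul_inv_cancel, Finset.sum_eq_zero fun t _ => by rw [hc t, zero_mul]] at h1
  simp [ent3] at h1

theorem get_mul {R : Type*} [CommRing R] (x y : Tab R) (r s : Fin 3) :
    (x.mul y).get r s = ∑ t, x.get r t * y.get t s := by
  rw [Fin.sum_univ_three]
  fin_cases r <;> fin_cases s <;> rfl

theorem get_of {R : Type*} [CommRing R] (f : Fin 3 → Fin 3 → R) (r s : Fin 3) : (Tab.of f).get r s = f r s := by
  fin_cases r <;> fin_cases s <;> rfl

theorem of_get {R : Type*} [CommRing R] (x : Tab R) : Tab.of x.get = x := rfl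

theorem get_adj {R : Type*} [CommRing R] (x : Tab R) (r s : Fin 3) :
    (x.mul x.adj).get r s = if r = s then x.det else 0 := by
  fin_cases r <;> fin_cases s <;> simp [Tab.mul, Tab.adj, Tab.get, Tab.det] <;> ring

variable {K : Type*} [Field K] [DecidableEq K] (φ : K →+* F)

/-- the matrix of `y` is a multiple of the table `x` -/
def Rep (e : Basis (Fin 3) F V) (y : V ≃ₗ[F] V) (x : Tab K) : Prop :=
  ∃ c : Fˣ, ∀ r s, ent3 e y r s = c * φ (x.get r s)

variable {φ}

theorem Rep.mul {y z : V ≃ₗ[F] V} {x w : Tab K} (h : Rep φ e y x) (h' : Rep φ e z w) : Rep φ e (y * z) (x.mul w) := by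
  obtain ⟨c, hc⟩ := h
  obtain ⟨d, hd⟩ := h'
  refine ⟨c * d, fun r s => ?_⟩
  rw [ent3_mul, get_mul, map_sum, Finset.mul_sum]
  exact Finset.sum_congr rfl fun t _ => by rw [hc, hd, map_mul, Units.val_mul]; ring

theorem Rep.det_ne {y : V ≃ₗ[F] V} {x : Tab K} (h : Rep φ e y x) : x.det ≠ 0 := by
  obtain ⟨c, hc⟩ := h
  intro h0
  refine y.isUnit_det'.ne_zero ?_
  rw [det_ent3 (e := e)]
  have h0' := congrArg φ h0
  rw [map_zero] at h0'
  simp only [Tab.det, Tab.of, hc, Tab.get, map_add, map_sub, map_mul] at h0' ⊢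
  linear_combination (c : F) ^ 3 * h0'

theorem Rep.inv {y : V ≃ₗ[F] V} {x : Tab K} (h : Rep φ e y x) : Rep φ e y⁻¹ x.adj := by
  have hd := h.det_ne
  have hd' : φ x.det ≠ 0 := fun e' => hd (φ.injective (e'.trans (map_zero φ).symm))
  obtain ⟨c, hc⟩ := h
  refine ⟨(c * Units.mk0 _ hd')⁻¹, fun r s => ?_⟩
  set v : V := ∑ t, (((c : F) * φ x.det)⁻¹ * φ (x.adj.get t s)) • e t with hv
  have hyv : y v = e s := by
    refine e.repr.injective (Finsupp.ext fun a => ?_)
    rw [hv, map_sum, map_sum, Finsupp.coe_finset_sum, Finset.sum_apply]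
    simp only [map_smul, Finsupp.smul_apply, smul_eq_mul]
    have h1 : ∀ t, e.repr (y (e t)) a = (c : F) * φ (x.get a t) := fun t => hc a t
    simp only [h1]
    have h2 := congrArg φ ((get_mul x x.adj a s).symm.trans (get_adj x a s))
    rw [map_sum] at h2
    simp only [map_mul] at h2
    rw [Basis.repr_self, Finsupp.single_apply]
    calc ∑ t, ((c : F) * φ x.det)⁻¹ * φ (x.adj.get t s) * ((c : F) * φ (x.get a t))
        = (φ x.det)⁻¹ * ∑ t, φ (x.get a t) * φ (x.adj.get t s) := by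
          rw [Finset.mul_sum]
          exact Finset.sum_congr rfl fun t _ => by have := c.ne_zero; field_simp
      _ = if s = a then 1 else 0 := by
          rw [h2]
          by_cases has : a = s
          · rw [if_pos has, if_pos has.symm, inv_mul_cancel₀ hd']
          · rw [if_neg has, if_neg (Ne.symm has), map_zero, mul_zero]
  show e.repr (y⁻¹ (e s)) r = _
  rw [← hyv, inv_apply, hv, map_sum, Finsupp.coe_finset_sum, Finset.sum_apply]
  simp [Finsupp.single_apply]

theorem Rep.ne_zero {y : V ≃ₗ[F] V} {x : Tab K} (h : Rep φ e y x) (r s : Fin 3) :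
    ent3 e y r s ≠ 0 ↔ x.get r s ≠ 0 := by
  obtain ⟨c, hc⟩ := h
  rw [hc]
  simp [c.ne_zero, map_eq_zero_iff φ φ.injective]

theorem Rep.of_two {y : V ≃ₗ[F] V} {x : Tab K} (h : Rep φ e y x)
    (h2 : (two₃ x.a x.d x.g || two₃ x.b x.e x.h || two₃ x.c x.f x.i) = true) : ¬ Mono e y := by
  simp only [two₃, Bool.or_eq_true, Bool.and_eq_true, bne_iff_ne, ne_eq] at h2
  have key : ∀ r r' s, r ≠ r' → x.get r s ≠ 0 → x.get r' s ≠ 0 → ¬ Mono e y := fun r r' s hne a b =>
    not_mono_of_two hne ((h.ne_zero r s).2 a) ((h.ne_zero r' s).2 b)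
  rcases h2 with (h' | h') | h'
  all_goals rcases h' with (⟨a, b⟩ | ⟨a, b⟩) | ⟨a, b⟩
  · exact key 0 1 0 (by decide) a b
  · exact key 0 2 0 (by decide) a b
  · exact key 1 2 0 (by decide) a b
  · exact key 0 1 1 (by decide) a b
  · exact key 0 2 1 (by decide) a b
  · exact key 1 2 1 (by decide) a b
  · exact key 0 1 2 (by decide) a b
  · exact key 0 2 2 (by decide) a b
  · exact key 1 2 2 (by decide) a b

variable (h : Stab e M) (hno : NoLine e M)
include h hno

theorem bad0_false {z A B : V ≃ₗ[F] V} (hz : z ∈ M) (hA : Mono e A) (hB : Mono e B) {x : Tab K}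
    (hr : Rep φ e (A * z * B) x) (hbad : x.bad0 = true) : False := by
  rw [Tab.bad0, Bool.and_eq_true] at hbad
  obtain ⟨hone, htwo⟩ := hbad
  have hn : ¬ Mono e z := fun hm => hr.of_two htwo ((hA.mul hm).mul hB)
  have key : ∀ r r₁ r₂ s : Fin 3, r ≠ r₁ → r ≠ r₂ → r₁ ≠ r₂ → x.get r₁ s = 0 → x.get r₂ s = 0 → False := by
    intro r r₁ r₂ s h1 h2 h12 e1 e2
    have e1' : ent3 e (A * z * B) r₁ s = 0 := by by_contra hc; exact (hr.ne_zero r₁ s).1 hc e1
    have e2' : ent3 e (A * z * B) r₂ s = 0 := by by_contra hc; exact (hr.ne_zero r₂ s).1 hc e2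
    obtain ⟨σ, c, rfl⟩ := exists_monE hA
    obtain ⟨π, d, rfl⟩ := exists_monE hB
    obtain ⟨q, hq, hq0⟩ := col_two' h hno hz hn (π s) (σ.symm r)
    have hσq : σ q ≠ r := fun e' => hq (by rw [← e', Equiv.symm_apply_apply])
    have : ent3 e (monE e σ c * z * monE e π d) (σ q) s = c q * ent3 e z q (π s) * d s := by
      rw [ent3_monE_right, ent3_monE_left]
    have hzero : ent3 e (monE e σ c * z * monE e π d) (σ q) s = 0 := by
      rcases cases_three h1 h2 h12 (σ q) with e' | e' | e'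
      · exact absurd e' hσq
      · rw [e', e1']
      · rw [e', e2']
    rw [this] at hzero
    exact mul_ne_zero (mul_ne_zero (c q).ne_zero hq0) (d s).ne_zero hzero
  simp only [one₃, Bool.or_eq_true, Bool.and_eq_true, bne_iff_ne, ne_eq, beq_iff_eq] at hone
  rcases hone with (h' | h') | h'
  all_goals rcases h' with (⟨⟨-, a⟩, b⟩ | ⟨⟨a, -⟩, b⟩) | ⟨⟨a, b⟩, -⟩
  · exact key 0 1 2 0 (by decide) (by decide) (by decide) a b
  · exact key 1 0 2 0 (by decide) (by decide) (by decide) a b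
  · exact key 2 0 1 0 (by decide) (by decide) (by decide) a b
  · exact key 0 1 2 1 (by decide) (by decide) (by decide) a b
  · exact key 1 0 2 1 (by decide) (by decide) (by decide) a b
  · exact key 2 0 1 1 (by decide) (by decide) (by decide) a b
  · exact key 0 1 2 2 (by decide) (by decide) (by decide) a b
  · exact key 1 0 2 2 (by decide) (by decide) (by decide) a b
  · exact key 2 0 1 2 (by decide) (by decide) (by decide) a b

omit hno in
theorem word_mem {z B m : V ≃ₗ[F] V} (hz : z ∈ M) (hB : Mono e B) (hm : Mono e m)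
    (hmd : LinearMap.det m.toLinearMap = 1) : z * (B * m * B⁻¹) * z⁻¹ ∈ M := by
  refine mul_mem (mul_mem hz (h.stab _ ((hB.mul hm).mul hB.inv) ?_)) (inv_mem hz)
  rw [Cfsg.Agent.Classical.Decomp.det_mul, Cfsg.Agent.Classical.Decomp.det_mul, hmd,
    Cfsg.Agent.Classical.Decomp.det_inv, mul_one, mul_inv_cancel₀ B.isUnit_det'.ne_zero]

end Cfsg.Agent.ClassicalMax.SL3

namespace Cfsg.Agent.ClassicalMax.SL3

open Module Cfsg.Agent.Classical.Decomp Seven

/-- seven is prime -/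
theorem fact_seven : Fact (Nat.Prime 7) := ⟨by norm_num⟩

attribute [local instance] fact_seven

variable {F V : Type*} [Field F] [Fintype F] [AddCommGroup V] [Module F V]
  {e : Basis (Fin 3) F V} {M : Subgroup (V ≃ₗ[F] V)} (φ : ZMod 7 →+* F) (hφ : Function.Surjective φ)

/-- a monomial map with the matrix of an entry of `monList` -/
theorem exists_mon (m : Fin 3 × ZMod 7 × ZMod 7) (hm : m ∈ monList) :
    ∃ g : V ≃ₗ[F] V, Mono e g ∧ LinearMap.det g.toLinearMap = 1 ∧ Rep φ e g (monTab m) := by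
  obtain ⟨k, u, v⟩ := m
  have huv : u ≠ 0 ∧ v ≠ 0 := by
    have : ∀ m' ∈ monList, m'.2.1 ≠ 0 ∧ m'.2.2 ≠ 0 := by decide +kernel
    exact this _ hm
  have hw : (u * v) ^ 5 * (u * v) = 1 := by
    have h6 : ∀ a : ZMod 7, a ≠ 0 → a ^ 5 * a = 1 := by decide
    exact h6 _ (mul_ne_zero huv.1 huv.2)
  have hne : ∀ a : ZMod 7, a ≠ 0 → φ a ≠ 0 := fun a ha e' => ha (φ.injective (e'.trans (map_zero φ).symm))
  have hu := hne _ huv.1
  have hv := hne _ huv.2
  have hz : φ ((u * v) ^ 5) ≠ 0 := hne _ (pow_ne_zero 5 (mul_ne_zero huv.1 huv.2))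
  have hw' : φ ((u * v) ^ 5) * (φ u * φ v) = 1 := by rw [← map_mul, ← map_mul, hw, map_one]
  fin_cases k
  · set g := monE e 1 ![Units.mk0 _ hu, Units.mk0 _ hv, Units.mk0 _ hz] with hg
    refine ⟨g, mono_monE _ _, ?_, 1, fun r s => ?_⟩
    · rw [hg, det_monE, Fin.prod_univ_three]
      have h'' := hw'
      simp at h'' ⊢
      linear_combination h''
    · fin_cases r <;> fin_cases s <;> simp [hg, ent3, monE_basis, monTab, Tab.get]
  · set g := monE e (Equiv.swap 1 2) ![Units.mk0 _ hu, Units.mk0 _ hv, -Units.mk0 _ hz] with hg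
    refine ⟨g, mono_monE _ _, ?_, 1, fun r s => ?_⟩
    · rw [hg, det_monE, Fin.prod_univ_three, Equiv.Perm.sign_swap (by decide)]
      have h'' := hw'
      simp at h'' ⊢
      linear_combination h''
    · fin_cases r <;> fin_cases s <;>
        simp [hg, ent3, monE_basis, monTab, Tab.get, Equiv.swap_apply_def, Finsupp.single_apply]
  · set g := monE e (Equiv.swap 0 1) ![Units.mk0 _ hu, Units.mk0 _ hv, -Units.mk0 _ hz] with hg
    refine ⟨g, mono_monE _ _, ?_, 1, fun r s => ?_⟩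
    · rw [hg, det_monE, Fin.prod_univ_three, Equiv.Perm.sign_swap (by decide)]
      have h'' := hw'
      simp at h'' ⊢
      linear_combination h''
    · fin_cases r <;> fin_cases s <;>
        simp [hg, ent3, monE_basis, monTab, Tab.get, Equiv.swap_apply_def, Finsupp.single_apply]

theorem exists_perm_three (a b c : Fin 3) (hab : a ≠ b) (hac : a ≠ c) (hbc : b ≠ c) :
    ∃ σ : Equiv.Perm (Fin 3), σ a = 0 ∧ σ b = 1 ∧ σ c = 2 := by
  revert hab hac hbc; revert a b c; decide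

variable (h : Stab e M) (hno : NoLine e M)
include hφ h hno

/-- no entry of a non-monomial element vanishes -/
theorem seven_no_zero {z : V ≃ₗ[F] V} (hz : z ∈ M) (hn : ¬ Mono e z) (r k : Fin 3) : ent3 e z r k ≠ 0 := by
  intro hr0
  obtain ⟨i, hir, hi⟩ := col_two' h hno hz hn k r
  obtain ⟨l, hlr, hil⟩ : ∃ l : Fin 3, l ≠ r ∧ i ≠ l := by revert hir; clear hi hr0; revert i r; decide
  have hl : ent3 e z l k ≠ 0 := by
    obtain ⟨q, hq, hq0⟩ := col_two' h hno hz hn k i
    rcases cases_three hil hir hlr q with e' | e' | e'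
    · exact absurd e' hq
    · exact e' ▸ hq0
    · exact absurd (e' ▸ hq0) (fun h' => h' hr0)
  obtain ⟨σ, hσi, hσl, hσr⟩ := exists_perm_three i l r hil hir hlr
  obtain ⟨π, hπ⟩ : ∃ π : Equiv.Perm (Fin 3), π 0 = k := ⟨Equiv.swap 0 k, Equiv.swap_apply_left 0 k⟩
  set cA : Fin 3 → Fˣ := three i l (Units.mk0 _ hi)⁻¹ (Units.mk0 _ hl)⁻¹ 1 with hcA
  set A₀ := monE e σ cA with hA₀
  set B₀ := monE e π (fun _ => 1) with hB₀
  set y₀ := A₀ * z * B₀ with hy₀
  have e00 : ent3 e y₀ 0 0 = 1 := by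
    rw [hy₀, hA₀, hB₀, ent3_monE_right, hπ, ← hσi, ent3_monE_left, hcA, three_i]
    simp [ent3, show e.repr (z (e k)) i ≠ 0 from hi]
  have e10 : ent3 e y₀ 1 0 = 1 := by
    rw [hy₀, hA₀, hB₀, ent3_monE_right, hπ, ← hσl, ent3_monE_left, hcA, three_j hil]
    simp [ent3, show e.repr (z (e k)) l ≠ 0 from hl]
  have e20 : ent3 e y₀ 2 0 = 0 := by
    rw [hy₀, hA₀, hB₀, ent3_monE_right, hπ, ← hσr, ent3_monE_left, hr0]
    simp
  -- scalings of the last two columns and of the last row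
  classical
  set κ : Fin 3 → Fˣ := fun s => if h' : ent3 e y₀ 0 s ≠ 0 then (Units.mk0 _ h')⁻¹ else 1 with hκ
  set y₁ := y₀ * monE e 1 κ with hy₁
  have hκ0 : κ 0 = 1 := by
    rw [hκ]
    simp only [e00, ne_eq, one_ne_zero, not_false_eq_true, dif_pos]
    exact Units.ext (by simp)
  have h0s : ∀ s, ent3 e y₁ 0 s = 0 ∨ ent3 e y₁ 0 s = 1 := fun s => by
    rw [hy₁, ent3_diag_right, hκ]
    by_cases h' : ent3 e y₀ 0 s ≠ 0
    · right; simp [dif_pos h', Units.val_inv_eq_inv_val, mul_inv_cancel₀ h']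
    · left; push Not at h'; rw [h', zero_mul]
  have f10 : ent3 e y₁ 1 0 = 1 := by rw [hy₁, ent3_diag_right, e10, hκ0, Units.val_one, mul_one]
  have f00 : ent3 e y₁ 0 0 = 1 := by rw [hy₁, ent3_diag_right, e00, hκ0, Units.val_one, mul_one]
  have f20 : ent3 e y₁ 2 0 = 0 := by rw [hy₁, ent3_diag_right, e20, zero_mul]
  obtain ⟨ρ, hρ⟩ : ∃ ρ : Fˣ, (ρ : F) * ent3 e y₁ 2 1 = 1 ∨ ((ρ : F) * ent3 e y₁ 2 1 = 0 ∧ (ρ : F) * ent3 e y₁ 2 2 = 1) := by
    by_cases h' : ent3 e y₁ 2 1 ≠ 0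
    · exact ⟨(Units.mk0 _ h')⁻¹, Or.inl (by simp [h'])⟩
    push Not at h'
    obtain ⟨s, hs⟩ := row_ne (e := e) y₁ 2
    fin_cases s
    · exact absurd f20 hs
    · exact absurd h' hs
    · exact ⟨(Units.mk0 _ hs)⁻¹, Or.inr ⟨by rw [h', mul_zero], inv_mul_cancel₀ hs⟩⟩
  set D := monE e 1 (three 2 0 ρ 1 1) with hD
  set y := D * y₁ with hy
  have hyent : ∀ r' s, ent3 e y r' s = (three (2 : Fin 3) 0 ρ 1 1 r' : F) * ent3 e y₁ r' s := fun r' s => by
    rw [hy, hD, ent3_diag_left]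
  have t0 : three (2 : Fin 3) 0 ρ 1 1 0 = 1 := three_j (by decide) _ _ _
  have t1 : three (2 : Fin 3) 0 ρ 1 1 1 = 1 := three_t (by decide) (by decide) _ _ _
  have t2 : three (2 : Fin 3) 0 ρ 1 1 2 = ρ := three_i _ _ _ _ _
  choose ψ hψ using hφ
  set x : Tab (ZMod 7) := Tab.of fun r' s => ψ (ent3 e y r' s) with hx
  have hrep : Rep φ e y x := ⟨1, fun r' s => by rw [hx, get_of, hψ, Units.val_one, one_mul]⟩
  have hinj : ∀ {a : ZMod 7} {b : F}, φ a = b → ψ b = a := fun {a b} hab => φ.injective (by rw [hψ, hab])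
  set A := D * A₀ with hA
  set B := B₀ * monE e 1 κ with hB
  have hyAB : y = A * z * B := by rw [hy, hy₁, hy₀, hA, hB]; simp only [mul_assoc]
  have hAm : Mono e A := (mono_monE _ _).mul (mono_monE _ _)
  have hBm : Mono e B := (mono_monE _ _).mul (mono_monE _ _)
  have hmemAll : ∀ a : ZMod 7, a ∈ allList := by decide
  have xa : x.a = 1 := hinj (by rw [map_one, hyent, t0, f00]; simp)
  have xd : x.d = 1 := hinj (by rw [map_one, hyent, t1, f10]; simp)
  have xg : x.g = 0 := hinj (by rw [map_zero, hyent, f20, mul_zero])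
  have xb : x.b = 0 ∨ x.b = 1 := by
    rcases h0s 1 with h' | h'
    · exact Or.inl (hinj (by rw [map_zero, hyent, h', mul_zero]))
    · exact Or.inr (hinj (by rw [map_one, hyent, t0, h']; simp))
  have xc : x.c = 0 ∨ x.c = 1 := by
    rcases h0s 2 with h' | h'
    · exact Or.inl (hinj (by rw [map_zero, hyent, h', mul_zero]))
    · exact Or.inr (hinj (by rw [map_one, hyent, t0, h']; simp))
  have xrow : (x.h, x.i) ∈ rowList := by
    rcases hρ with h' | ⟨h', h''⟩
    · have : x.h = 1 := hinj (by rw [map_one, hyent, t2, h'])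
      rw [this]
      have : ∀ f : ZMod 7, ((1 : ZMod 7), f) ∈ rowList := by decide
      exact this _
    · have e1 : x.h = 0 := hinj (by rw [map_zero, hyent, t2, h'])
      have e2 : x.i = 1 := hinj (by rw [map_one, hyent, t2, h''])
      rw [e1, e2]; decide
  have hcheck : check0 x.b x.c = true := by
    rcases xb with e1 | e1 <;> rcases xc with e2 | e2 <;> rw [e1, e2]
    exacts [check0_00, check0_01, check0_10, check0_11]
  simp only [check0, List.all_eq_true] at hcheck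
  have hfin := hcheck x.e (hmemAll _) x.f (hmemAll _) _ xrow
  simp only [Bool.or_eq_true, beq_iff_eq, List.any_eq_true] at hfin
  have hxe : (⟨1, x.b, x.c, 1, x.e, x.f, 0, x.h, x.i⟩ : Tab (ZMod 7)) = x := by
    conv_rhs => rw [show x = ⟨x.a, x.b, x.c, x.d, x.e, x.f, x.g, x.h, x.i⟩ from rfl, xa, xd, xg]
  rw [hxe] at hfin
  rcases hfin with ((h' | h') | h') | ⟨m, hm, h'⟩
  · exact hrep.det_ne h'
  · exact bad0_false h hno hz hAm hBm (hyAB ▸ hrep) h'
  · exact bad0_false h hno (inv_mem hz) hBm.inv hAm.inv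
      (show Rep φ e (B⁻¹ * z⁻¹ * A⁻¹) x.adj by
        rw [show B⁻¹ * z⁻¹ * A⁻¹ = y⁻¹ by rw [hyAB]; group]
        exact hrep.inv) h'
  · obtain ⟨g, hg, hgd, hgr⟩ := exists_mon φ (e := e) m hm
    exact bad0_false h hno (word_mem h hz hBm hg hgd) hAm hAm.inv
      (show Rep φ e (A * (z * (B * g * B⁻¹) * z⁻¹) * A⁻¹) _ by
        rw [show A * (z * (B * g * B⁻¹) * z⁻¹) * A⁻¹ = y * g * y⁻¹ by rw [hyAB]; group]
        exact (hrep.mul hgr).mul hrep.inv) h'

/-- all elements are monomial -/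
theorem seven_mono : ∀ x ∈ M, Mono e x := by
  by_contra! hc
  obtain ⟨z, hz, hn⟩ := hc
  have hnz := seven_no_zero φ hφ h hno hz hn
  have hzero : ∀ {g A B : V ≃ₗ[F] V} {x : Tab (ZMod 7)}, g ∈ M → Mono e A → Mono e B → Rep φ e (A * g * B) x →
      x.bad1 = true → False := by
    intro g A B x hg hA hB hr hbad
    rw [Tab.bad1, Bool.and_eq_true] at hbad
    obtain ⟨hzr, htwo⟩ := hbad
    have hgn : ¬ Mono e g := fun hm => hr.of_two htwo ((hA.mul hm).mul hB)
    have key : ∀ r s, x.get r s = 0 → False := fun r s hxz => by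
      obtain ⟨σ, c, rfl⟩ := exists_monE hA
      obtain ⟨π, d, rfl⟩ := exists_monE hB
      have h1 : ent3 e (monE e σ c * g * monE e π d) r s = 0 := by by_contra hc; exact (hr.ne_zero r s).1 hc hxz
      rw [ent3_monE_right, ← σ.apply_symm_apply r, ent3_monE_left] at h1
      exact mul_ne_zero (mul_ne_zero (c _).ne_zero (seven_no_zero φ hφ h hno hg hgn _ _)) (d s).ne_zero h1
    simp only [Bool.or_eq_true, beq_iff_eq] at hzr
    rcases hzr with (((((((h' | h') | h') | h') | h') | h') | h') | h') | h'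
    exacts [key 0 0 h', key 0 1 h', key 0 2 h', key 1 0 h', key 1 1 h', key 1 2 h', key 2 0 h', key 2 1 h', key 2 2 h']
  set A := monE e 1 (fun r => (Units.mk0 _ (hnz r 0))⁻¹) with hA
  set y₀ := A * z with hy₀
  have hy0ne : ∀ r s, ent3 e y₀ r s ≠ 0 := fun r s => by
    rw [hy₀, hA, ent3_diag_left]; exact mul_ne_zero (Units.ne_zero _) (hnz r s)
  set B := monE e 1 (fun s => (Units.mk0 _ (hy0ne 0 s))⁻¹) with hB
  set y := y₀ * B with hy
  have hy00 : ent3 e y₀ 0 0 = 1 := by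
    rw [hy₀, hA, ent3_diag_left, Units.val_inv_eq_inv_val]; exact inv_mul_cancel₀ (hnz 0 0)
  have hrow : ∀ s, ent3 e y 0 s = 1 := fun s => by
    rw [hy, hB, ent3_diag_right, Units.val_inv_eq_inv_val]; exact mul_inv_cancel₀ (hy0ne 0 s)
  have hcol : ∀ r, ent3 e y r 0 = 1 := fun r => by
    rw [hy, hB, ent3_diag_right, Units.val_inv_eq_inv_val, Units.val_mk0, hy00, inv_one, mul_one, hy₀, hA, ent3_diag_left,
      Units.val_inv_eq_inv_val]
    exact inv_mul_cancel₀ (hnz r 0)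
  have hne : ∀ r s, ent3 e y r s ≠ 0 := fun r s => by
    rw [hy, hB, ent3_diag_right]; exact mul_ne_zero (hy0ne r s) (Units.ne_zero _)
  choose ψ hψ using hφ
  set x : Tab (ZMod 7) := Tab.of fun r s => ψ (ent3 e y r s) with hx
  have hrep : Rep φ e y x := ⟨1, fun r s => by rw [hx, get_of, hψ, Units.val_one, one_mul]⟩
  have hone : ∀ r s, ent3 e y r s = 1 → ψ (ent3 e y r s) = 1 := fun r s h' => φ.injective (by rw [hψ, h', map_one])
  have hunit : ∀ r s, ψ (ent3 e y r s) ∈ unitsList := fun r s => by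
    have : ∀ a : ZMod 7, a ≠ 0 → a ∈ unitsList := by decide
    refine this _ fun h0 => hne r s ?_
    rw [← hψ (ent3 e y r s), h0, map_zero]
  have hxe : x = ⟨1, 1, 1, 1, x.e, x.f, 1, x.h, x.i⟩ := by
    conv_lhs => rw [show x = ⟨x.a, x.b, x.c, x.d, x.e, x.f, x.g, x.h, x.i⟩ from rfl,
      show x.a = 1 from hone _ _ (hrow 0), show x.b = 1 from hone _ _ (hrow 1), show x.c = 1 from hone _ _ (hrow 2),
      show x.d = 1 from hone _ _ (hcol 1), show x.g = 1 from hone _ _ (hcol 2)]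
  have hAm : Mono e A := mono_monE _ _
  have hBm : Mono e B := mono_monE _ _
  have hyAB : y = A * z * B := rfl
  have hfin := check1_true
  simp only [check1, List.all_eq_true] at hfin
  have h1 := hfin x.e (hunit _ _) x.f (hunit _ _) x.h (hunit _ _) x.i (hunit _ _)
  rw [← hxe] at h1
  simp only [Bool.or_eq_true, beq_iff_eq, List.any_eq_true, Bool.and_eq_true] at h1
  have hex : (x = exA ∨ x = exB) → False := by
    intro hxx
    set dA : F := LinearMap.det A.toLinearMap with hdA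
    have hdA0 : dA ≠ 0 := A.isUnit_det'.ne_zero
    set a : ZMod 7 := ψ dA⁻¹ with ha
    have ha' : φ a = dA⁻¹ := hψ _
    have hxd : x.det ≠ 0 := hrep.det_ne
    have ha0 : a ≠ 0 := fun h0 => by
      rw [h0, map_zero] at ha'
      exact inv_ne_zero hdA0 ha'.symm
    have h6 : ∀ t : ZMod 7, t ≠ 0 → t ^ 5 * t = 1 := by decide
    set b : ZMod 7 := (a * x.det) ^ 5 with hb
    have hb0 : b ≠ 0 := pow_ne_zero 5 (mul_ne_zero ha0 hxd)
    have hne' : ∀ t : ZMod 7, t ≠ 0 → φ t ≠ 0 := fun t ht e' => ht (φ.injective (e'.trans (map_zero φ).symm))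
    set L := monE e 1 (three (0 : Fin 3) 1 (Units.mk0 _ (hne' a ha0)) 1 1) with hL
    set R := monE e 1 (three (0 : Fin 3) 1 (Units.mk0 _ (hne' b hb0)) 1 1) with hR
    have hdetdiag : ∀ u : Fˣ, LinearMap.det (monE e 1 (three (0 : Fin 3) 1 u 1 1)).toLinearMap = u := fun u => by
      rw [det_monE, Fin.prod_univ_three, three_i, three_j (by decide), three_t (by decide) (by decide)]
      simp
    have hdy : φ x.det = dA * LinearMap.det B.toLinearMap := by
      have hz1 := h.det z hz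
      have : LinearMap.det y.toLinearMap = φ x.det := by
        rw [det_ent3 (e := e)]
        simp only [Tab.det, Tab.of, map_add, map_sub, map_mul, hx, hψ]
      rw [← this, hyAB, Cfsg.Agent.Classical.Decomp.det_mul, Cfsg.Agent.Classical.Decomp.det_mul, hz1, mul_one]
    have hLA : L * A ∈ M := h.stab _ ((mono_monE _ _).mul hAm) (by
      rw [Cfsg.Agent.Classical.Decomp.det_mul, hL, hdetdiag, Units.val_mk0, ha', ← hdA, inv_mul_cancel₀ hdA0])
    have hBR : B * R ∈ M := h.stab _ (hBm.mul (mono_monE _ _)) (by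
      rw [Cfsg.Agent.Classical.Decomp.det_mul, hR, hdetdiag, Units.val_mk0, hb, map_pow, map_mul, hdy, ha']
      have h6' := congrArg φ (h6 _ (mul_ne_zero ha0 hxd))
      rw [map_mul, map_pow, map_mul, hdy, ha', map_one] at h6'
      field_simp at h6' ⊢
      exact h6')
    have hgM : L * y * R ∈ M := by
      rw [hyAB, show L * (A * z * B) * R = (L * A) * z * (B * R) by group]
      exact mul_mem (mul_mem hLA hz) hBR
    have hLr : Rep φ e L ⟨a, 0, 0, 0, 1, 0, 0, 0, 1⟩ := ⟨1, fun r s => by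
      fin_cases r <;> fin_cases s <;> simp [hL, ent3, diag_apply, three, Tab.get, Function.update]⟩
    have hRr : Rep φ e R ⟨b, 0, 0, 0, 1, 0, 0, 0, 1⟩ := ⟨1, fun r s => by
      fin_cases r <;> fin_cases s <;> simp [hR, ent3, diag_apply, three, Tab.get, Function.update]⟩
    have hgr : Rep φ e (L * y * R) (scaledEx x a) := (hLr.mul hrep).mul hRr
    have hau : a ∈ unitsList := by
      have : ∀ t : ZMod 7, t ≠ 0 → t ∈ unitsList := by decide
      exact this _ ha0
    have h2 := check2_true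
    simp only [check2, List.all_eq_true, Bool.and_eq_true] at h2
    obtain ⟨c1, c2⟩ := h2 a hau
    have hone' : Mono e (1 : V ≃ₗ[F] V) := fun i => ⟨i, 1, by simp⟩
    set g := L * y * R
    rcases hxx with hxx | hxx <;> rw [hxx] at hgr
    · exact hzero (mul_mem (mul_mem (mul_mem hgM hgM) hgM) hgM) hone' hone'
        (by rw [one_mul, mul_one]; exact ((hgr.mul hgr).mul hgr).mul hgr) c1
    · obtain ⟨m, hm, hmd, hmr⟩ := exists_mon φ (e := e) (0, 1, 3) (by decide)
      have hmM : m ∈ M := h.stab _ hm hmd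
      exact hzero (mul_mem (mul_mem (mul_mem (mul_mem (mul_mem (mul_mem hgM hmM) hgM) hmM) hgM) hmM) hgM) hone' hone'
        (by rw [one_mul, mul_one]; exact (((((hgr.mul hmr).mul hgr).mul hmr).mul hgr).mul hmr).mul hgr) c2
  rcases h1 with (((h' | h') | ⟨m, hm, h'⟩) | ⟨⟨⟨h1, h2⟩, h3⟩, h4⟩) | ⟨⟨⟨h1, h2⟩, h3⟩, h4⟩
  · exact hrep.det_ne h'
  · exact hzero (inv_mem hz) hBm.inv hAm.inv
      (show Rep φ e (B⁻¹ * z⁻¹ * A⁻¹) x.adj by
        rw [show B⁻¹ * z⁻¹ * A⁻¹ = y⁻¹ by rw [hyAB]; group]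
        exact hrep.inv) h'
  · have hmem : ((0 : Fin 3), m.1, m.2) ∈ monList := by
      have : ∀ m' ∈ diagList, ((0 : Fin 3), m'.1, m'.2) ∈ monList := by decide +kernel
      exact this m hm
    obtain ⟨g, hg, hgd, hgr⟩ := exists_mon φ (e := e) _ hmem
    exact hzero (word_mem h hz hBm hg hgd) hAm hAm.inv
      (show Rep φ e (A * (z * (B * g * B⁻¹) * z⁻¹) * A⁻¹) _ by
        rw [show A * (z * (B * g * B⁻¹) * z⁻¹) * A⁻¹ = y * g * y⁻¹ by rw [hyAB]; group]
        exact (hrep.mul hgr).mul hrep.inv) h'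
  · exact hex (Or.inl (by rw [hxe, h1, h2, h3, h4]; rfl))
  · exact hex (Or.inr (by rw [hxe, h1, h2, h3, h4]; rfl))

end Cfsg.Agent.ClassicalMax.SL3
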