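import Cfsg.Agent.Classical.Decomp.Main
import Cfsg.Agent.ClassicalMax.SL3.MonoSeven

/-!
Stabilisers of decompositions of a three-dimensional space into lines are maximal in the special linear group over
fields with at least five elements.
-/

set_option autoImplicit false

namespace Cfsg.Agent.ClassicalMax.SL3

open Module Cfsg.Agent.Classical.Decomp

variable {F V : Type*} [Field F] [Fintype F] [AddCommGroup V] [Module F V]
  {e : Basis (Fin 3) F V} {M : Subgroup (V ≃ₗ[F] V)}

theorem Stab.irreducible (h : Stab e M) :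
    ∀ U : Submodule F V, (∀ g ∈ M, ∀ u ∈ U, g u ∈ U) → U = ⊥ ∨ U = ⊤ := by
  intro U hU
  by_cases hb : U = ⊥
  · exact Or.inl hb
  refine Or.inr ?_
  obtain ⟨u, hu, hu0⟩ := Submodule.exists_mem_ne_zero_of_ne_bot hb
  obtain ⟨j, hj⟩ : ∃ j, e.repr u j ≠ 0 := by
    by_contra! hc
    exact hu0 (e.repr.map_eq_zero_iff.1 (Finsupp.ext hc))
  obtain ⟨i, t, hji, hjt, hit⟩ : ∃ i t : Fin 3, j ≠ i ∧ j ≠ t ∧ i ≠ t := by clear hj; revert j; decide
  obtain ⟨b, hb3⟩ := exists_b h
  set g := monE e 1 (three j i (b ^ 2) b⁻¹ b⁻¹) with hg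
  have hgM : g ∈ M := diag_mem h hji hjt hit (by rw [three_i, three_j hji, three_t hjt hit]; group)
  have hgu : g u - (b : F)⁻¹ • u = (((b : F) ^ 2 - (b : F)⁻¹) * e.repr u j) • e j := by
    conv_lhs => rw [decomp_three (e := e) hji hjt hit u]
    simp only [hg, map_add, map_smul, diag_apply, three_i, three_j hji, three_t hjt hit, Units.val_pow_eq_pow_val,
      Units.val_inv_eq_inv_val]
    module
  have hne : (b : F) ^ 2 - (b : F)⁻¹ ≠ 0 := fun e' => hb3 (by
    have := b.ne_zero
    field_simp at e'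
    linear_combination e')
  have hej : e j ∈ U := by
    have := U.smul_mem (((b : F) ^ 2 - (b : F)⁻¹) * e.repr u j)⁻¹ (hgu ▸ U.sub_mem (hU g hgM u hu) (U.smul_mem _ hu))
    rwa [smul_smul, inv_mul_cancel₀ (mul_ne_zero hne hj), one_smul] at this
  have hall : ∀ k, e k ∈ U := fun k => by
    obtain ⟨c, hc⟩ := exists_det_one (e := e) (Equiv.swap j k)
    have := U.smul_mem (c j : F)⁻¹ (hU _ (h.stab _ (mono_monE _ _) hc) _ hej)
    rwa [monE_basis, Equiv.swap_apply_left, smul_smul, inv_mul_cancel₀ (Units.ne_zero _), one_smul] at this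
  refine eq_top_iff.2 fun v _ => ?_
  rw [← e.sum_repr v]
  exact sum_mem fun k _ => U.smul_mem _ (hall k)

theorem hasRoot_of_over (h : Stab e M) (hn : ∃ g ∈ M, ¬ Mono e g) : HasRoot M := by
  by_contra hR
  have hno : NoLine e M := fun y hy t γ hyt => by
    by_contra hy'
    exact hR (fixed_line h hy hy' hyt)
  obtain ⟨g, hg, hgn⟩ := hn
  refine hgn ?_
  by_cases h7 : Fintype.card F = 7
  · let φ := ZMod.ringEquivOfPrime F (by norm_num : Nat.Prime 7) h7
    exact seven_mono (φ : ZMod 7 →+* F) φ.surjective h hno g hg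
  classical
  obtain ⟨β, hβ⟩ := IsCyclic.exists_generator (α := Fˣ)
  have hord : orderOf β = Fintype.card F - 1 := by
    rw [orderOf_eq_card_of_forall_mem_zpowers hβ, Nat.card_eq_fintype_card, Fintype.card_units]
  have h5 := h.five
  have key : ∀ n : ℕ, n = 6 ∨ n = 9 → (β : F) ^ n ≠ 1 := by
    intro n hn' e'
    have hd : Fintype.card F - 1 ∣ n := hord ▸ orderOf_dvd_of_pow_eq_one (Units.ext (by simpa using e'))
    have hle : Fintype.card F - 1 ≤ n := Nat.le_of_dvd (by omega) hd
    have h10 : Fintype.card F = 10 → False := fun h10 => by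
      obtain ⟨p, hp⟩ := CharP.exists F
      obtain ⟨k, hp', hk⟩ := FiniteField.card F p
      rw [h10] at hk
      have h2 : 2 ∣ p := Nat.prime_two.dvd_of_dvd_pow (n := k) (by rw [← hk]; norm_num)
      have h5' : 5 ∣ p := (Nat.prime_five.dvd_of_dvd_pow (n := k) (by rw [← hk]; norm_num))
      rw [Nat.prime_dvd_prime_iff_eq Nat.prime_two hp'] at h2
      rw [Nat.prime_dvd_prime_iff_eq Nat.prime_five hp'] at h5'
      omega
    have hub : Fintype.card F ≤ 10 := by omega
    rcases hn' with rfl | rfl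
    · interval_cases h' : Fintype.card F <;> omega
    · interval_cases h' : Fintype.card F <;> first | omega | exact h10 rfl
  exact mono_of_noLine h hno (β := β) (by rw [← pow_mul]; exact key _ (Or.inl rfl))
    (by rw [← pow_mul]; exact key _ (Or.inr rfl)) g hg

/-- stabilisers of three independent lines are maximal -/
theorem isMaximal_lines {F : Type*} [Field F] [Fintype F] {D : Fin 3 → Submodule F (Fin 3 → F)}
    (hD : Cfsg.Geo.IsMDecomposition 1 D) (hq : 5 ≤ Fintype.card F) :
    Cfsg.Geo.IsMaximalIn (Cfsg.Geo.specialLinear (Fin 3) F)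
      (Cfsg.Geo.decompositionStabilizer D ⊓ Cfsg.Geo.specialLinear (Fin 3) F) := by
  classical
  refine isMaximalIn_of (proper hD) fun M hstab hdet ⟨g, hg, hgD⟩ => ?_
  have hb := DirectSum.isInternal_submodule_of_iSupIndep_of_iSup_eq_top hD.indep hD.iSup_eq_top
  let b : ∀ i, Basis (Fin 1) F (D i) := fun i => (Module.finBasis F (D i)).reindex (finCongr (hD.finrank_eq i))
  let e : Basis (Fin 3) F (Fin 3 → F) := (hb.collectedBasis b).reindex (Equiv.sigmaUnique (Fin 3) fun _ => Fin 1)
  have hmem : ∀ i, e i ∈ D i := fun i => by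
    rw [Basis.reindex_apply]
    exact hb.collectedBasis_mem b ((Equiv.sigmaUnique (Fin 3) fun _ => Fin 1).symm i)
  have hspan : ∀ i, D i = Submodule.span F {e i} := fun i => by
    refine (Submodule.eq_of_le_of_finrank_eq ((Submodule.span_singleton_le_iff_mem _ _).2 (hmem i)) ?_).symm
    rw [finrank_span_singleton (e.ne_zero i), hD.finrank_eq]
  have hiff : ∀ g, Permutes D g ↔ Mono e g := fun g => by
    constructor
    · rintro ⟨σ, hσ⟩ i
      have h' : g (e i) ∈ D (σ i) := hσ i ▸ Submodule.mem_map_of_mem (hmem i)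
      rw [hspan] at h'
      obtain ⟨c, hc⟩ := Submodule.mem_span_singleton.1 h'
      exact ⟨σ i, c, hc.symm⟩
    · intro hmn
      obtain ⟨σ, c, rfl⟩ := exists_monE hmn
      refine permutes_of_le hD.finrank_eq _ σ fun i x hx => ?_
      rw [hspan] at hx
      obtain ⟨a, rfl⟩ := Submodule.mem_span_singleton.1 hx
      rw [map_smul, monE_basis]
      exact Submodule.smul_mem _ _ (Submodule.smul_mem _ _ (hmem _))
  have h : Stab e M := ⟨fun x hx hd => hstab x ((hiff x).2 hx) hd, hdet, hq⟩
  obtain ⟨φ, v, hR⟩ := hasRoot_of_over h ⟨g, hg, fun hc => hgD ((hiff g).2 hc)⟩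
  exact all_of_root (Module.finrank_fin_fun F) h.irreducible hR

end Cfsg.Agent.ClassicalMax.SL3
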