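import Cfsg.Agent.ClassicalMax.SL3.MonoLine
import Cfsg.Agent.ClassicalMax.SL3.MonoFrob

/-!
Overgroups of the monomial group in dimension three without non-monomial elements fixing a coordinate line do not
exist when some cube in the field has order at least four.
-/

set_option autoImplicit false
set_option linter.unusedSectionVars false

namespace Cfsg.Agent.ClassicalMax.SL3

open Module Cfsg.Agent.Classical.Decomp

variable {F V : Type*} [Field F] [Fintype F] [AddCommGroup V] [Module F V]
  {e : Basis (Fin 3) F V} {M : Subgroup (V ≃ₗ[F] V)}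

/-- the scalar multiples of the elements of `M` -/
def scaled (M : Subgroup (V ≃ₗ[F] V)) : Subgroup (V ≃ₗ[F] V) where
  carrier := {g | ∃ c : Fˣ, ∃ m ∈ M, ∀ v, g v = (c : F) • m v}
  mul_mem' := fun {g g'} ⟨c, m, hm, hc⟩ ⟨c', m', hm', hc'⟩ => ⟨c * c', m * m', mul_mem hm hm', fun v => by
    rw [LinearEquiv.mul_apply, LinearEquiv.mul_apply, hc', hc, map_smul, smul_smul, Units.val_mul]⟩
  one_mem' := ⟨1, 1, one_mem M, fun v => by simp⟩
  inv_mem' := fun {g} ⟨c, m, hm, hc⟩ => ⟨c⁻¹, m⁻¹, inv_mem hm, fun v => by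
    apply g.injective
    rw [apply_inv, hc, map_smul, apply_inv, smul_smul, Units.val_inv_eq_inv_val, mul_inv_cancel₀ c.ne_zero, one_smul]⟩

theorem mem_scaled_of_mem {g : V ≃ₗ[F] V} (hg : g ∈ M) : g ∈ scaled M := ⟨1, g, hg, fun v => by simp⟩

/-- no non-monomial element of `M` fixes a coordinate line -/
def NoLine (e : Basis (Fin 3) F V) (M : Subgroup (V ≃ₗ[F] V)) : Prop :=
  ∀ y ∈ M, ∀ (t : Fin 3) (γ : F), y (e t) = γ • e t → Mono e y

theorem mono_of_fix (hno : NoLine e M) {g : V ≃ₗ[F] V} (hg : g ∈ scaled M) {t : Fin 3} {γ : F}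
    (h : g (e t) = γ • e t) : Mono e g := by
  obtain ⟨c, m, hm, hc⟩ := hg
  have hmono := hno m hm t ((c : F)⁻¹ * γ) (by
    rw [mul_smul, ← h, hc, smul_smul, inv_mul_cancel₀ c.ne_zero, one_smul])
  intro i
  obtain ⟨j, d, hd⟩ := hmono i
  exact ⟨j, (c : F) * d, by rw [hc, hd, smul_smul]⟩

variable (h : Stab e M) (hno : NoLine e M)
include h hno

theorem col_two' {x : V ≃ₗ[F] V} (hx : x ∈ M) (hn : ¬ Mono e x) (k p : Fin 3) :
    ∃ s, s ≠ p ∧ e.repr (x (e k)) s ≠ 0 := by
  by_contra! hc
  have hk : x (e k) = e.repr (x (e k)) p • e p := repr_eq_single hc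
  obtain ⟨d, hd⟩ := exists_det_one (e := e) (Equiv.swap p k)
  set S := monE e (Equiv.swap p k) d with hS
  have hSM : S ∈ M := h.stab _ (mono_monE _ _) hd
  have hm := hno (S * x) (mul_mem hSM hx) k (e.repr (x (e k)) p * d p) (by
    rw [LinearEquiv.mul_apply]
    conv_lhs => rw [hk, map_smul, hS, monE_basis, Equiv.swap_apply_left, smul_smul])
  refine hn ?_
  have := (mono_monE (e := e) (Equiv.swap p k) d).inv.mul hm
  rwa [← hS, inv_mul_cancel_left] at this

omit hno in
theorem dil_mem_scaled (k : Fin 3) (β : Fˣ) : dil (e.coord k) (e k) (β ^ 3) ∈ scaled M := by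
  obtain ⟨i, j, hki, hkj, hij⟩ : ∃ i j : Fin 3, k ≠ i ∧ k ≠ j ∧ i ≠ j := by revert k; decide
  set d := three k i (β ^ 2) β⁻¹ β⁻¹ with hd
  refine ⟨β, monE e 1 d, diag_mem h hki hkj hij (by rw [hd, three_i, three_j hki, three_t hkj hij]; group), fun v => ?_⟩
  have : (dil (e.coord k) (e k) (β ^ 3)).toLinearMap = (β : F) • (monE e 1 d).toLinearMap := by
    refine e.ext fun l => ?_
    rw [LinearEquiv.coe_coe, LinearMap.smul_apply, LinearEquiv.coe_coe, dil_apply (by simp), diag_apply, smul_smul, hd]
    rcases cases_three hki hkj hij l with rfl | rfl | rfl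
    · rw [three_i]; simp; match_scalars; ring
    · rw [three_j hki]; simp [hki.symm]
    · rw [three_t hkj hij]; simp [hkj.symm]
  exact LinearMap.congr_fun this v

omit hno in
theorem dil_conj_mem {x : V ≃ₗ[F] V} (hx : x ∈ M) (k : Fin 3) (β : Fˣ) :
    dil ((e.coord k).comp (x⁻¹ : V ≃ₗ[F] V).toLinearMap) (x (e k)) (β ^ 3) ∈ scaled M := by
  rw [← conj_dil x (by simp)]
  exact mul_mem (mul_mem (mem_scaled_of_mem hx) (dil_mem_scaled h k β)) (inv_mem (mem_scaled_of_mem hx))

omit h hno in
theorem psi_one (x : V ≃ₗ[F] V) (k : Fin 3) : ((e.coord k).comp (x⁻¹ : V ≃ₗ[F] V).toLinearMap) (x (e k)) = 1 := by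
  show e.coord k (x⁻¹ (x (e k))) = 1
  rw [inv_apply]; simp

theorem inv_entry_ne {β : Fˣ} (hs : ((β : F) ^ 3) ^ 2 ≠ 1) {x : V ≃ₗ[F] V} (hx : x ∈ M) (hn : ¬ Mono e x)
    (k m : Fin 3) : e.repr (x⁻¹ (e m)) k ≠ 0 := by
  intro hm
  set ψ := (e.coord k).comp (x⁻¹ : V ≃ₗ[F] V).toLinearMap with hψ
  set u := x (e k) with hu
  have h1 := psi_one (e := e) x k
  have hψe : ∀ i, ψ (e i) = e.repr (x⁻¹ (e i)) k := fun i => rfl
  obtain ⟨j, hj⟩ : ∃ j, ψ (e j) ≠ 0 := by
    by_contra! hc
    have : ψ = 0 := e.ext fun i => by simpa using hc i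
    rw [← hψ, this] at h1
    exact zero_ne_one h1
  obtain ⟨l, hlj, hl⟩ := col_two' h hno hx hn k j
  have key : ∀ b : Fˣ, ((b : F) ^ 3 ≠ 1) → 1 + ψ (e j) * (((b : F) ^ 3 - 1) * e.repr u j) = 0 := by
    intro b hb
    have hmono := mono_of_fix hno (dil_conj_mem h hx k b) (t := m) (γ := 1) (by
      rw [dil_apply h1, ← hψ, hψe m, hm, zero_smul, add_zero, one_smul])
    obtain ⟨p, c, hpc⟩ := hmono j
    rw [dil_apply h1, ← hψ, ← hu] at hpc
    have el := congrArg (fun v => e.repr v l) hpc
    have ej := congrArg (fun v => e.repr v j) hpc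
    simp [hlj.symm, smul_smul] at el ej
    have hpl : p = l := by
      by_contra hpl
      simp [hpl] at el
      rcases el with (e' | e') | e'
      · exact hj e'
      · exact hb (sub_eq_zero.1 e')
      · exact hl e'
    subst hpl
    simp [hlj] at ej
    linear_combination ej
  have hb1 : (β : F) ^ 3 ≠ 1 := fun e' => hs (by rw [e', one_pow])
  have hb2 : ((β⁻¹ : Fˣ) : F) ^ 3 ≠ 1 := fun e' => hb1 (by
    rwa [Units.val_inv_eq_inv_val, inv_pow, inv_eq_one] at e')
  have k1 := key β hb1
  have k2 := key β⁻¹ hb2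
  rw [Units.val_inv_eq_inv_val, inv_pow] at k2
  have hne : ψ (e j) * e.repr u j ≠ 0 := fun e' => one_ne_zero (α := F) (by linear_combination k1 - ((β : F) ^ 3 - 1) * e')
  refine hs ?_
  have h3 : ((β : F) ^ 3)⁻¹ = (β : F) ^ 3 := mul_left_cancel₀ hne (by linear_combination k2 - k1)
  rw [pow_two]
  conv_lhs => arg 1; rw [← h3]
  exact inv_mul_cancel₀ (pow_ne_zero 3 β.ne_zero)

theorem entry_ne {β : Fˣ} (hs : ((β : F) ^ 3) ^ 2 ≠ 1) {x : V ≃ₗ[F] V} (hx : x ∈ M) (hn : ¬ Mono e x)
    (k m : Fin 3) : e.repr (x (e m)) k ≠ 0 := by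
  have := inv_entry_ne h hno hs (inv_mem hx) (fun hm => hn (by simpa using hm.inv)) k m
  rwa [inv_inv] at this

/-- the product of an entry with the opposite entry of the inverse -/
noncomputable def pp (e : Basis (Fin 3) F V) (x : V ≃ₗ[F] V) (k i : Fin 3) : F :=
  e.repr (x (e k)) i * e.repr (x⁻¹ (e i)) k

omit h hno in
theorem sum_pp (x : V ≃ₗ[F] V) (k : Fin 3) : ∑ i, pp e x k i = 1 := by
  have := psi_one (e := e) x k
  conv_lhs at this => arg 2; rw [← e.sum_repr (x (e k))]
  simp only [map_sum, map_smul, LinearMap.comp_apply, LinearEquiv.coe_coe, Basis.coord_apply, smul_eq_mul] at this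
  exact this

theorem no_split {β : Fˣ} (hs : ((β : F) ^ 3) ^ 2 ≠ 1) {x : V ≃ₗ[F] V} (hx : x ∈ M) (hn : ¬ Mono e x)
    {k i l m : Fin 3} (hil : i ≠ l) (him : i ≠ m) (hlm : l ≠ m) (hne : pp e x k l ≠ pp e x k m) : False := by
  haveI : Module.Finite F V := Module.Finite.of_basis e
  haveI : Finite V := Module.finite_of_finite F
  set s : Fˣ := β ^ 3 with hsd
  have hs1 : (s : F) - 1 ≠ 0 := fun e' => hs (by
    rw [sub_eq_zero, hsd, Units.val_pow_eq_pow_val] at e'
    rw [e', one_pow])
  have hs0 : (s : F) ≠ 0 := s.ne_zero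
  set ψ := (e.coord k).comp (x⁻¹ : V ≃ₗ[F] V).toLinearMap with hψ
  set u := x (e k) with hu
  have h1 : ψ u = 1 := psi_one (e := e) x k
  have hψe : ∀ a, ψ (e a) = e.repr (x⁻¹ (e a)) k := fun a => rfl
  have hψne : ∀ a, ψ (e a) ≠ 0 := fun a => inv_entry_ne h hno hs hx hn k a
  have hune : ∀ a, e.repr u a ≠ 0 := fun a => entry_ne h hno hs hx hn a k
  have hpp : ∀ a, pp e x k a = e.repr u a * ψ (e a) := fun a => rfl
  have hsum : pp e x k i + pp e x k l + pp e x k m = 1 := (sum_three hil him hlm _).symm.trans (sum_pp x k)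
  set R : V := ψ (e m) • e l - ψ (e l) • e m with hR
  have hψR : ψ R = 0 := by rw [hR, map_sub, map_smul, map_smul, smul_eq_mul, smul_eq_mul]; ring
  have hiR : e.coord i R = 0 := by simp [hR, hil.symm, him.symm]
  set w : V := u - e.repr u i • e i with hw
  have hwc : w = e.repr u l • e l + e.repr u m • e m := by
    rw [hw]
    conv_lhs => arg 1; rw [decomp_three (e := e) hil him hlm u]
    abel
  set h₁ := dil (e.coord i) (e i) s with hh1
  set h₂ := dil ψ u s with hh2
  have hh1M : h₁ ∈ scaled M := dil_mem_scaled h i β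
  have hh2M : h₂ ∈ scaled M := dil_conj_mem h hx k β
  have hd1 : ∀ v, h₁ v = v + e.coord i v • (((s : F) - 1) • e i) := fun v => dil_apply (by simp) s v
  have hd2 : ∀ v, h₂ v = v + ψ v • (((s : F) - 1) • u) := fun v => dil_apply h1 s v
  by_cases hpi : pp e x k i = 1
  · -- the line of the two centres passes through the common fixed point
    have hz0 : pp e x k l + pp e x k m = 0 := by linear_combination hsum - hpi
    rw [hpp, hpp] at hz0
    set ρ := e.repr u l / ψ (e m) with hρ
    have hρ0 : ρ ≠ 0 := div_ne_zero (hune l) (hψne m)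
    have huR : u = e.repr u i • e i + ρ • R := by
      have : w = ρ • R := by
        rw [hwc, hR, smul_sub, smul_smul, smul_smul, hρ]
        have := hψne m
        match_scalars <;> field_simp
        linear_combination hz0
      rw [← this, hw, add_sub_cancel]
    have hi1 : h₁⁻¹ (e i) = (s : F)⁻¹ • e i := by
      apply h₁.injective
      rw [apply_inv, map_smul, hd1]
      simp [smul_smul]
      match_scalars
      field_simp
      ring
    have hiR' : h₁⁻¹ R = R := by
      apply h₁.injective
      rw [apply_inv, hd1, hiR, zero_smul, add_zero]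
    have hil' : h₁⁻¹ (e l) = e l := by
      apply h₁.injective
      rw [apply_inv, hd1]
      simp [hil.symm]
    set U := h₁⁻¹ * h₂ with hU
    set U' := h₁ * U * h₁⁻¹ with hU'
    have hUM : U ∈ scaled M := mul_mem (inv_mem hh1M) hh2M
    have hU'M : U' ∈ scaled M := mul_mem (mul_mem hh1M hUM) (inv_mem hh1M)
    set α := ((s : F) - 1) * ψ (e i) * ρ with hα
    set γ := ((s : F) - 1) * ψ (e l) * e.repr u i / (s : F) with hγ
    set δ := ((s : F) - 1) * ψ (e l) * ρ with hδ
    have hpi' : e.repr u i * ψ (e i) = 1 := hpi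
    have hUi : U (e i) = e i + α • R := by
      rw [hU, LinearEquiv.mul_apply, hd2, map_add, map_smul, map_smul, huR, map_add, map_smul, map_smul, hi1, hiR', hα]
      match_scalars <;> first | ring1 | (field_simp; linear_combination ((s : F) - 1) * hpi')
    have hUl : U (e l) = e l + γ • e i + δ • R := by
      rw [hU, LinearEquiv.mul_apply, hd2, map_add, map_smul, map_smul, huR, map_add, map_smul, map_smul, hi1, hiR', hil',
        hγ, hδ]
      match_scalars <;> field_simp
    have hUR : U R = R := by rw [hU, LinearEquiv.mul_apply, hd2, hψR, zero_smul, add_zero, hiR']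
    have hh1R : h₁ R = R := by rw [hd1, hiR, zero_smul, add_zero]
    have hh1i : h₁ (e i) = (s : F) • e i := by
      rw [hd1]; simp; match_scalars; ring
    have hh1l : h₁ (e l) = e l := by rw [hd1]; simp [hil.symm]
    have hU'i : U' (e i) = e i + (α / (s : F)) • R := by
      rw [hU', LinearEquiv.mul_apply, LinearEquiv.mul_apply, hi1, map_smul, hUi, map_smul, map_add, map_smul, hh1i, hh1R]
      match_scalars <;> field_simp
    have hU'l : U' (e l) = e l + ((s : F) * γ) • e i + δ • R := by
      rw [hU', LinearEquiv.mul_apply, LinearEquiv.mul_apply, hil', hUl, map_add, map_add, map_smul, map_smul, hh1i, hh1R,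
        hh1l]
      module
    have hU'R : U' R = R := by
      rw [hU', LinearEquiv.mul_apply, LinearEquiv.mul_apply, hiR', hUR, hh1R]
    set A := U * U' with hA
    set B := U' * U with hB
    have hAi : A (e i) = e i + (α + α / (s : F)) • R := by
      rw [hA, LinearEquiv.mul_apply, hU'i, map_add, map_smul, hUi, hUR]; module
    have hBi : B (e i) = e i + (α + α / (s : F)) • R := by
      rw [hB, LinearEquiv.mul_apply, hUi, map_add, map_smul, hU'i, hU'R]; module
    have hAl : A (e l) = e l + (γ + (s : F) * γ) • e i + (2 * δ + (s : F) * γ * α) • R := by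
      rw [hA, LinearEquiv.mul_apply, hU'l, map_add, map_add, map_smul, map_smul, hUi, hUl, hUR]; module
    have hBl : B (e l) = e l + (γ + (s : F) * γ) • e i + (2 * δ + γ * (α / (s : F))) • R := by
      rw [hB, LinearEquiv.mul_apply, hUl, map_add, map_add, map_smul, map_smul, hU'i, hU'l, hU'R]; module
    set z := A * B⁻¹ with hz
    have hzM : z ∈ scaled M := mul_mem (mul_mem hUM hU'M) (inv_mem (mul_mem hU'M hUM))
    have hzB : ∀ v, z (B v) = A v := fun v => by rw [hz, LinearEquiv.mul_apply, inv_apply]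
    have hzR : z R = R := by
      have hBR : B R = R := by rw [hB, LinearEquiv.mul_apply, hUR, hU'R]
      conv_lhs => rw [← hBR]
      rw [hzB, hA, LinearEquiv.mul_apply, hU'R, hUR]
    have hzi : z (e i) = e i := by
      have := hzB (e i)
      rw [hBi, hAi, map_add, map_smul, hzR] at this
      exact add_right_cancel this
    set ε := γ * α * ((s : F) - (s : F)⁻¹) with hε
    have hzl : z (e l) = e l + ε • R := by
      have := hzB (e l)
      rw [hBl, hAl, map_add, map_add, map_smul, map_smul, hzR, hzi] at this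
      rw [hε]
      linear_combination (norm := skip) this
      match_scalars <;> field_simp <;> ring
    have hε0 : ε ≠ 0 := by
      refine mul_ne_zero (mul_ne_zero ?_ ?_) ?_
      · rw [hγ]; exact div_ne_zero (mul_ne_zero (mul_ne_zero hs1 (hψne l)) (hune i)) hs0
      · rw [hα]; exact mul_ne_zero (mul_ne_zero hs1 (hψne i)) hρ0
      · intro e'
        refine hs ?_
        rw [sub_eq_zero, hsd, Units.val_pow_eq_pow_val] at e'
        rw [pow_two]
        nth_rewrite 1 [e']
        exact inv_mul_cancel₀ (pow_ne_zero 3 β.ne_zero)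
    have hzm : z (e m) = e m + (ε * ψ (e m) / ψ (e l)) • R := by
      have e2 : ψ (e l) • e m = ψ (e m) • e l - R := by rw [hR]; abel
      have := congrArg z e2
      rw [map_smul, map_sub, map_smul, hzl, hzR] at this
      refine smul_right_injective V (hψne l) ?_
      show ψ (e l) • z (e m) = ψ (e l) • (e m + (ε * ψ (e m) / ψ (e l)) • R)
      rw [this, smul_add (ψ (e l)) (e m), e2, smul_smul (ψ (e l)), mul_div_cancel₀ _ (hψne l)]
      module
    have hmono := mono_of_fix hno hzM (t := i) (γ := 1) (by rw [hzi, one_smul])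
    obtain ⟨p, c, hpc⟩ := hmono l
    rw [hzl, hR] at hpc
    have el := congrArg (fun v => e.repr v l) hpc
    have em := congrArg (fun v => e.repr v m) hpc
    simp [hlm, hlm.symm, him, hil] at el em
    have hpm : p = m := by
      by_contra hpm
      simp [hpm, hε0, hψne l] at em
    subst hpm
    simp [hlm, hlm.symm] at el
    obtain ⟨q, c', hqc⟩ := hmono p
    rw [hzm, hR] at hqc
    have el' := congrArg (fun v => e.repr v l) hqc
    have em' := congrArg (fun v => e.repr v p) hqc
    simp [hlm, hlm.symm] at el' em'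
    have hql : q = l := by
      by_contra hql
      simp [hql] at el'
      simp [hε0, hψne] at el'
    subst hql
    simp [hlm, hlm.symm] at em'
    have h2 : (2 : F) = 0 := by
      have := hψne q
      field_simp at em'
      linear_combination em' + el
    refine hne ?_
    rw [hpp, hpp]
    linear_combination hz0 - (e.repr u p * ψ (e p)) * h2
  · -- the two centres and the fixed point span the space
    let v3 : Fin 3 → V := ![e i, w, R]
    have hdet3 : e.repr u l * ψ (e l) + e.repr u m * ψ (e m) ≠ 0 := fun e' => hpi (by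
      rw [hpp i, ← hsum, hpp i, hpp l, hpp m, add_assoc, e', add_zero])
    have hli : LinearIndependent F v3 := by
      rw [Fintype.linearIndependent_iff]
      intro g hg
      rw [Fin.sum_univ_three] at hg
      simp only [v3, Matrix.cons_val_zero, Matrix.cons_val_one, Matrix.cons_val, hwc, hR] at hg
      have ei := congrArg (fun v => e.repr v i) hg
      have el := congrArg (fun v => e.repr v l) hg
      have em := congrArg (fun v => e.repr v m) hg
      simp [hil, hil.symm, him, him.symm, hlm, hlm.symm] at ei el em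
      have g1 : g 1 = 0 := (mul_eq_zero.1 (show g 1 * (e.repr u l * ψ (e l) + e.repr u m * ψ (e m)) = 0 by
        linear_combination ψ (e l) * el + ψ (e m) * em)).resolve_right hdet3
      rw [g1, zero_mul, zero_add] at el
      have g2 : g 2 = 0 := (mul_eq_zero.1 el).resolve_right (hψne m)
      intro a
      fin_cases a
      · exact ei
      · exact g1
      · exact g2
    let b := basisOfLinearIndependentOfCardEqFinrank hli (by rw [Module.finrank_eq_card_basis e])
    have hb : ∀ a, b a = v3 a := fun a => by simp [b]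
    have hb0 : b 0 = e i := hb 0
    have hb1 : b 1 = w := hb 1
    have hb2 : b 2 = R := hb 2
    let K : Subgroup (V ≃ₗ[F] V) :=
      { carrier := {g | g (b 2) = b 2 ∧ ∀ v, b.repr (g v) 2 = b.repr v 2}
        mul_mem' := fun {g g'} hg hg' => ⟨by rw [LinearEquiv.mul_apply, hg'.1, hg.1], fun v => by
          rw [LinearEquiv.mul_apply, hg.2, hg'.2]⟩
        one_mem' := ⟨rfl, fun v => rfl⟩
        inv_mem' := fun {g} hg => ⟨by
          apply g.injective
          rw [apply_inv, hg.1], fun v => by
          have := hg.2 (g⁻¹ v)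
          rw [apply_inv] at this
          exact this.symm⟩ }
    have hpl : ∀ g ∈ scaled M ⊓ K, Planar b g := fun g hg =>
      ⟨hg.2.1, by rw [hg.2.2]; simp, by rw [hg.2.2]; simp⟩
    have hstab : ∀ g ∈ scaled M ⊓ K, en b g 1 0 = 0 → en b g 0 1 = 0 ∧ en b g 1 1 = 1 := by
      intro g hg h10
      have hgi : g (e i) = en b g 0 0 • e i := by
        have := (hpl g hg).col 0 (by decide)
        rwa [h10, zero_smul, add_zero, hb0] at this
      obtain ⟨σ, c, rfl⟩ := exists_monE (mono_of_fix hno hg.1 hgi)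
      have hσi : σ i = i := by
        have e2 := congrArg (fun v => e.repr v (σ i)) hgi
        simp only [monE_basis, map_smul, Finsupp.smul_apply, Basis.repr_self, Finsupp.single_eq_same, smul_eq_mul,
          mul_one] at e2
        by_contra hne'
        rw [Finsupp.single_eq_of_ne' (Ne.symm hne'), mul_zero] at e2
        exact (c i).ne_zero e2
      have hfixR : monE e σ c R = R := hb2 ▸ hg.2.1
      by_cases hσl : σ l = l
      · have hσm : σ m = m := by
          rcases cases_three hil him hlm (σ m) with e' | e' | e'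
          · exact absurd (σ.injective (e'.trans hσi.symm)) him.symm
          · exact absurd (σ.injective (e'.trans hσl.symm)) hlm.symm
          · exact e'
        rw [hR, map_sub, map_smul, map_smul, monE_basis, monE_basis, hσl, hσm] at hfixR
        have el := congrArg (fun v => e.repr v l) hfixR
        have em := congrArg (fun v => e.repr v m) hfixR
        simp [hlm, hlm.symm, hψne] at el em
        have hgw : monE e σ c (b 1) = b 1 := by
          rw [hb1, hwc, map_add, map_smul, map_smul, monE_basis, monE_basis, hσl, hσm, el, em]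
          simp
        constructor <;> simp [en, hgw]
      · have hσl' : σ l = m := by
          rcases cases_three hil him hlm (σ l) with e' | e' | e'
          · exact absurd (σ.injective (e'.trans hσi.symm)) hil.symm
          · exact absurd e' hσl
          · exact e'
        have hσm : σ m = l := by
          rcases cases_three hil him hlm (σ m) with e' | e' | e'
          · exact absurd (σ.injective (e'.trans hσi.symm)) him.symm
          · exact e'
          · exact absurd (σ.injective (e'.trans hσl'.symm)) hlm.symm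
        exfalso
        rw [hR, map_sub, map_smul, map_smul, monE_basis, monE_basis, hσl', hσm] at hfixR
        have em := congrArg (fun v => e.repr v m) hfixR
        simp [hlm, hlm.symm] at em
        have hL := hg.2.2 (e l)
        rw [monE_basis, hσl'] at hL
        obtain ⟨a0, a1, hd⟩ : ∃ a0 a1 : F, (c l : F) • e m - e l = a0 • e i + a1 • w := by
          refine ⟨b.repr ((c l : F) • e m - e l) 0, b.repr ((c l : F) • e m - e l) 1, ?_⟩
          conv_lhs => rw [← b.sum_repr ((c l : F) • e m - e l), Fin.sum_univ_three, hb0, hb1, hb2, map_sub]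
          simp only [Finsupp.sub_apply]
          rw [hL, sub_self, zero_smul, add_zero]
          simp only [map_sub, Finsupp.sub_apply]
        rw [hwc] at hd
        have fl := congrArg (fun v => e.repr v l) hd
        have fm := congrArg (fun v => e.repr v m) hd
        simp [hlm, hlm.symm, hil, him] at fl fm
        refine hne ?_
        rw [hpp, hpp]
        linear_combination (e.repr u l) * em - e.repr u l * ψ (e m) * fm + e.repr u m * ψ (e m) * fl
    have hh1K : h₁ ∈ K := ⟨by rw [hb2, hd1, hiR, zero_smul, add_zero], fun v => by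
      rw [hd1, ← hb0]; simp⟩
    have hwu : u = e.repr u i • b 0 + b 1 := by rw [hb0, hb1, hw, add_sub_cancel]
    have hh2K : h₂ ∈ K := ⟨by rw [hb2, hd2, hψR, zero_smul, add_zero], fun v => by
      rw [hd2, map_add, map_smul, map_smul]
      conv_lhs => rw [hwu]
      simp⟩
    refine Frame.false (b := b) (G := scaled M ⊓ K) (h := h₁) (h' := h₂) ⟨hpl, hstab, ⟨hh1M, hh1K⟩, ⟨hh2M, hh2K⟩, ?_, ?_, ?_, ?_⟩
    · show b.repr (h₁ (b 0)) 1 = 0
      rw [hd1, ← hb0]; simp
    · show b.repr (h₁ (b 0)) 0 ^ 2 ≠ 1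
      have : h₁ (b 0) = (s : F) • b 0 := by rw [hb0, hd1]; simp; match_scalars; ring
      rw [this]
      simpa [hsd] using hs
    · show b.repr (h₂ (b 0)) 1 ≠ 0
      rw [hd2, hb0]
      conv_lhs => rw [hwu, ← hb0]
      simp only [map_add, map_smul, Finsupp.add_apply, Finsupp.smul_apply, Basis.repr_self, smul_eq_mul]
      simp [hb0, hψne, hs1]
    · show b.repr (h₂ (b 1)) 0 ≠ 0
      have hψb : ψ (b 1) = 1 - pp e x k i := by
        rw [hb1, hw, map_sub, map_smul, h1, hpp, smul_eq_mul]
      rw [hd2, hψb]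
      conv_lhs => rw [hwu]
      simp only [map_add, map_smul, Finsupp.add_apply, Finsupp.smul_apply, Basis.repr_self, smul_eq_mul]
      simp [hune, hs1, sub_ne_zero.2 (Ne.symm hpi)]

/-- overgroups without a non-monomial element fixing a coordinate line -/
theorem mono_of_noLine {β : Fˣ} (hs : ((β : F) ^ 3) ^ 2 ≠ 1) (hs3 : ((β : F) ^ 3) ^ 3 ≠ 1) :
    ∀ x ∈ M, Mono e x := by
  by_contra! hc
  obtain ⟨x, hx, hn⟩ := hc
  have hall : ∀ y ∈ M, ¬ Mono e y → ∀ k i, 3 * pp e y k i = 1 := by
    intro y hy hny k i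
    obtain ⟨l, m, hil, him, hlm⟩ : ∃ l m : Fin 3, i ≠ l ∧ i ≠ m ∧ l ≠ m := by revert i; decide
    have e1 : pp e y k l = pp e y k m := by
      by_contra hne
      exact no_split h hno hs hy hny hil him hlm hne
    have e2 : pp e y k i = pp e y k m := by
      by_contra hne
      exact no_split h hno hs hy hny hil.symm hlm him hne
    have hsum : pp e y k i + pp e y k l + pp e y k m = 1 := (sum_three hil him hlm _).symm.trans (sum_pp y k)
    linear_combination hsum + 2 * e2 - e1
  obtain ⟨c, y, hy, hcy⟩ := dil_conj_mem h hx 0 β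
  set ψ := (e.coord 0).comp (x⁻¹ : V ≃ₗ[F] V).toLinearMap
  set u := x (e 0)
  have h1 : ψ u = 1 := psi_one (e := e) x 0
  have hψne : ∀ a, ψ (e a) ≠ 0 := fun a => inv_entry_ne h hno hs hx hn 0 a
  have hune : ∀ a, e.repr u a ≠ 0 := fun a => entry_ne h hno hs hx hn a 0
  have hs1 : (β : F) ^ 3 - 1 ≠ 0 := fun e' => hs (by rw [sub_eq_zero.1 e', one_pow])
  have hoff : ∀ a a' : Fin 3, a' ≠ a → (c : F) * e.repr (y (e a)) a' = ψ (e a) * ((β : F) ^ 3 - 1) * e.repr u a' := by
    intro a a' ha
    have := congrArg (fun v => e.repr v a') (hcy (e a))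
    simp only [dil_apply h1, map_add, map_smul, Finsupp.add_apply, Finsupp.smul_apply, Basis.repr_self, smul_eq_mul,
      Units.val_pow_eq_pow_val, Finsupp.single_eq_of_ne' (Ne.symm ha), zero_add] at this
    linear_combination -this
  have hny : ¬ Mono e y := fun hm => by
    obtain ⟨p, d, hpd⟩ := hm 0
    have e1 := hoff 0 1 (by decide)
    have e2 := hoff 0 2 (by decide)
    rw [hpd] at e1 e2
    simp at e1 e2
    by_cases hp1 : p = 1
    · subst hp1
      simp at e2
      simp [hψne, hs1, hune] at e2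
    · simp [hp1] at e1
      simp [hψne, hs1, hune] at e1
  have hinv : ∀ a a' : Fin 3, a' ≠ a → e.repr (y⁻¹ (e a)) a' = (c : F) * (ψ (e a) * (((β : F) ^ 3)⁻¹ - 1) * e.repr u a') := by
    intro a a' ha
    have hd : dil ψ u (β ^ 3)⁻¹ (e a) = (c : F)⁻¹ • y⁻¹ (e a) := by
      rw [← dil_inv h1]
      apply (dil ψ u (β ^ 3)).injective
      rw [apply_inv, hcy, map_smul, apply_inv, smul_smul, mul_inv_cancel₀ c.ne_zero, one_smul]
    have := congrArg (fun v => e.repr v a') hd
    simp only [dil_apply h1, map_add, map_smul, Finsupp.add_apply, Finsupp.smul_apply, Basis.repr_self, smul_eq_mul,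
      Units.val_inv_eq_inv_val, Units.val_pow_eq_pow_val, Finsupp.single_eq_of_ne' (Ne.symm ha), zero_add] at this
    have hc0 := c.ne_zero
    field_simp at this ⊢
    linear_combination -this
  have k1 := hall y hy hny 0 1
  have hx0 := hall x hx hn 0 0
  have hx1 := hall x hx hn 0 1
  have e1 := hoff 0 1 (by decide)
  have e2 := hinv 1 0 (by decide)
  have hc0 := c.ne_zero
  rw [pp, e2] at k1
  simp only [pp] at hx0 hx1
  change 3 * (e.repr u 0 * ψ (e 0)) = 1 at hx0
  change 3 * (e.repr u 1 * ψ (e 1)) = 1 at hx1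
  have key : (3 : F) * ((((β : F) ^ 3) - 1) * (((β : F) ^ 3)⁻¹ - 1)) = 9 := by
    linear_combination 9 * k1 - 27 * ψ (e 1) * (((β : F) ^ 3)⁻¹ - 1) * e.repr u 0 * e1 -
      3 * (((β : F) ^ 3 - 1) * (((β : F) ^ 3)⁻¹ - 1)) * (3 * (e.repr u 1 * ψ (e 1))) * hx0 -
      3 * (((β : F) ^ 3 - 1) * (((β : F) ^ 3)⁻¹ - 1)) * hx1
  have h3 : (3 : F) ≠ 0 := fun e' => by rw [e', zero_mul] at hx0; exact zero_ne_one hx0
  refine hs3 ?_
  have hb0 : (β : F) ^ 3 ≠ 0 := pow_ne_zero 3 β.ne_zero
  have key2 : ((β : F) ^ 3) ^ 2 + (β : F) ^ 3 + 1 = 0 := by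
    refine (mul_eq_zero.1 (show (3 : F) * (((β : F) ^ 3) ^ 2 + (β : F) ^ 3 + 1) = 0 from ?_)).resolve_left h3
    field_simp at key
    linear_combination -key
  linear_combination ((β : F) ^ 3 - 1) * key2

end Cfsg.Agent.ClassicalMax.SL3
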